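import Mathlib
import Cfsg.Agent.Lib.Spec.UnitaryThreeLower
import Cfsg.Agent.Lib.FusionSys.SylowTwoPSU

/-!
# A Borel subgroup of `SU(3, 3)` in explicit matrices
-/

set_option autoImplicit false
set_option linter.unusedSectionVars false
set_option linter.unusedSimpArgs false
set_option linter.style.longLine false

open Matrix Cfsg.Lib.Spec.UThree

namespace Cfsg.Lib.U33

universe u

variable (F : Type u) [Field F] [Fintype F]

/-- A change of basis to the antidiagonal form. -/
structure Frame where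
  /-- the matrix -/
  P : Matrix (Fin 3) (Fin 3) F
  /-- its inverse -/
  P' : Matrix (Fin 3) (Fin 3) F
  mul' : P * P' = 1
  mul'' : P' * P = 1
  form : Pᵀ * P.map (· ^ 3) = antiDiag F

/-- A field with 9 elements. -/
def NineField : Prop := Fintype.card F = 3 ^ 2

variable {F}

theorem NineField.pow_nine (hF : NineField F) (x : F) : x ^ 9 = x := by
  have h := FiniteField.pow_card x
  rwa [show Fintype.card F = 9 from hF.trans (by norm_num)] at h

theorem NineField.pow_eight (hF : NineField F) {x : F} (hx : x ≠ 0) : x ^ 8 = 1 := by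
  have h := FiniteField.pow_card_sub_one_eq_one x hx
  rwa [show Fintype.card F - 1 = 8 by rw [hF]; norm_num] at h

theorem NineField.charP (hF : NineField F) : CharP F 3 := by
  obtain ⟨n, hp, h⟩ := FiniteField.card F (ringChar F)
  have h' : ringChar F ^ (n : ℕ) = 3 ^ 2 := h.symm.trans hF
  have h3 : ringChar F = 3 :=
    (Nat.prime_dvd_prime_iff_eq hp Nat.prime_three).1 (hp.dvd_of_dvd_pow (h' ▸ dvd_pow_self _ n.ne_zero))
  exact h3 ▸ ringChar.charP F

theorem NineField.three (hF : NineField F) : (3 : F) = 0 := by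
  haveI := hF.charP
  exact_mod_cast CharP.cast_eq_zero F 3

theorem NineField.add_cube (hF : NineField F) (x y : F) : (x + y) ^ 3 = x ^ 3 + y ^ 3 := by
  linear_combination (x ^ 2 * y + x * y ^ 2) * hF.three

theorem NineField.two_ne (hF : NineField F) : (2 : F) ≠ 0 := fun h => one_ne_zero (α := F) (by linear_combination hF.three - h)

theorem NineField.nonempty_frame (hF : NineField F) : Nonempty (Frame F) := by
  obtain ⟨P, P', h1, h2, h3⟩ := exists_basis_change (q := 3) hF hF.two_ne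
  exact ⟨⟨P, P', h1, h2, h3⟩⟩

/-- The unitriangular matrix. -/
def umat (a b : F) : Matrix (Fin 3) (Fin 3) F := !![1, a, b; 0, 1, -a ^ 3; 0, 0, 1]

/-- The torus matrix. -/
def tmat (x : F) : Matrix (Fin 3) (Fin 3) F := !![x, 0, 0; 0, x ^ 2, 0; 0, 0, x ^ 5]

/-- The antidiagonal element. -/
def wmat (F : Type u) [Field F] : Matrix (Fin 3) (Fin 3) F := !![0, 0, -1; 0, -1, 0; -1, 0, 0]

/-- The condition for a unitriangular matrix to be unitary. -/
def Cond (a b : F) : Prop := b + b ^ 3 + a ^ 4 = 0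

theorem umat_mul (hF : NineField F) (a b c d : F) : umat a b * umat c d = umat (a + c) (d - a * c ^ 3 + b) := by
  ext i j
  fin_cases i <;> fin_cases j <;> simp [umat, Matrix.mul_apply, Fin.sum_univ_three, hF.add_cube] <;> ring

theorem tmat_mul (x y : F) : tmat x * tmat y = tmat (x * y) := by
  ext i j
  fin_cases i <;> fin_cases j <;> simp [tmat, Matrix.mul_apply, Fin.sum_univ_three] <;> ring

theorem tmat_umat (hF : NineField F) {x : F} (hx : x ≠ 0) (a b : F) :
    tmat x * umat a b = umat (x ^ 7 * a) (x ^ 4 * b) * tmat x := by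
  have h := hF.pow_eight hx
  ext i j
  fin_cases i <;> fin_cases j <;> simp [umat, tmat, Matrix.mul_apply, Fin.sum_univ_three] <;> grind

theorem umat_zero : umat (0 : F) 0 = 1 := by
  ext i j
  fin_cases i <;> fin_cases j <;> simp [umat]

theorem tmat_one : tmat (1 : F) = 1 := by
  ext i j
  fin_cases i <;> fin_cases j <;> simp [tmat]

variable (B : Frame F)

/-- The matrix of an element in the antidiagonal basis. -/
def mat (g : Cfsg.SU 3 F 3) : Matrix (Fin 3) (Fin 3) F := B.P' * smat g * B.P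

theorem mat_mul (g h : Cfsg.SU 3 F 3) : mat B (g * h) = mat B g * mat B h := by
  have : smat (g * h) = smat g * smat h := rfl
  simp only [mat, this, Matrix.mul_assoc]
  rw [← Matrix.mul_assoc B.P B.P', B.mul', Matrix.one_mul]

theorem mat_one : mat B (1 : Cfsg.SU 3 F 3) = 1 := by
  have : smat (1 : Cfsg.SU 3 F 3) = 1 := rfl
  simp [mat, this, B.mul'']

theorem mat_inj {g h : Cfsg.SU 3 F 3} (e : mat B g = mat B h) : g = h := by
  have e' := congrArg (fun M => B.P * M * B.P') e
  simp only [mat, Matrix.mul_assoc, B.mul', Matrix.mul_one] at e'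
  rw [← Matrix.mul_assoc, ← Matrix.mul_assoc B.P B.P', B.mul', Matrix.one_mul, Matrix.one_mul] at e'
  exact Subtype.ext (Subtype.ext e')

theorem mat_form (hF : NineField F) (g : Cfsg.SU 3 F 3) :
    (mat B g)ᵀ * antiDiag F * (mat B g).map (· ^ 3) = antiDiag F := by
  have hM : (smat g)ᵀ * (smat g).map (· ^ 3) = 1 := by
    simpa using congrArg Matrix.transpose (smat_form (q := 3) hF g)
  have e : B.P'ᵀ * antiDiag F * B.P'.map (· ^ 3) = 1 := by
    rw [← B.form, ← Matrix.mul_assoc, ← Matrix.transpose_mul, B.mul', Matrix.transpose_one, Matrix.one_mul,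
      ← map_pow_mul hF, B.mul']
    ext i j
    simp only [Matrix.map_apply, Matrix.one_apply]
    split_ifs <;> simp
  calc (mat B g)ᵀ * antiDiag F * (mat B g).map (· ^ 3)
      = B.Pᵀ * ((smat g)ᵀ * (B.P'ᵀ * antiDiag F * B.P'.map (· ^ 3)) * (smat g).map (· ^ 3)) * B.P.map (· ^ 3) := by
        simp only [mat, Matrix.transpose_mul, map_pow_mul hF, Matrix.mul_assoc]
    _ = antiDiag F := by rw [e, Matrix.mul_one, hM, Matrix.mul_one, B.form]

theorem exists_el (hF : NineField F) (M : Matrix (Fin 3) (Fin 3) F) (hdet : M.det = 1)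
    (hM : Mᵀ * antiDiag F * M.map (· ^ 3) = antiDiag F) : ∃ g : Cfsg.SU 3 F 3, mat B g = M := by
  obtain ⟨g, hg⟩ := exists_of_form (q := 3) hF (B.P * M * B.P') (by
    rw [Matrix.det_mul, Matrix.det_mul, hdet, mul_one, ← Matrix.det_mul, B.mul', Matrix.det_one]) (by
    have e : B.P'ᵀ * antiDiag F * B.P'.map (· ^ 3) = 1 := by
      rw [← B.form, ← Matrix.mul_assoc, ← Matrix.transpose_mul, B.mul', Matrix.transpose_one, Matrix.one_mul,
        ← map_pow_mul hF, B.mul']
      ext i j
      simp only [Matrix.map_apply, Matrix.one_apply]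
      split_ifs <;> simp
    calc (B.P * M * B.P')ᵀ * (B.P * M * B.P').map (· ^ 3)
        = B.P'ᵀ * (Mᵀ * (B.Pᵀ * B.P.map (· ^ 3)) * M.map (· ^ 3)) * B.P'.map (· ^ 3) := by
          simp only [Matrix.transpose_mul, map_pow_mul hF, Matrix.mul_assoc]
      _ = 1 := by rw [B.form, hM, e])
  refine ⟨g, ?_⟩
  rw [mat, hg]
  simp only [← Matrix.mul_assoc, B.mul'', Matrix.one_mul]
  rw [Matrix.mul_assoc, B.mul'', Matrix.mul_one]

theorem exists_umat (hF : NineField F) {a b : F} (h : Cond a b) : ∃ g : Cfsg.SU 3 F 3, mat B g = umat a b := by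
  refine exists_el B hF _ (by simp [umat, Matrix.det_fin_three]) ?_
  have h9 := hF.pow_nine a
  have hc : b + b ^ 3 + a ^ 4 = 0 := h
  have h3 := hF.three
  ext i j
  fin_cases i <;> fin_cases j <;>
    simp [umat, antiDiag, Matrix.mul_apply, Fin.sum_univ_three, mul_pow] <;> grind

theorem cond_of_umat (hF : NineField F) {g : Cfsg.SU 3 F 3} {a b : F} (h : mat B g = umat a b) : Cond a b := by
  have h' := congrFun (congrFun (mat_form B hF g) 2) 2
  rw [h] at h'
  simp [umat, antiDiag, Matrix.mul_apply, Fin.sum_univ_three, mul_pow] at h'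
  have h9 := hF.pow_nine a
  unfold Cond
  grind

theorem exists_tmat (hF : NineField F) {x : F} (hx : x ≠ 0) : ∃ g : Cfsg.SU 3 F 3, mat B g = tmat x := by
  have h := hF.pow_eight hx
  refine exists_el B hF _ (by simp [tmat, Matrix.det_fin_three]; grind) ?_
  ext i j
  fin_cases i <;> fin_cases j <;> simp [tmat, antiDiag, Matrix.mul_apply, Fin.sum_univ_three] <;> grind

theorem exists_wmat (hF : NineField F) : ∃ g : Cfsg.SU 3 F 3, mat B g = wmat F := by
  refine exists_el B hF _ (by simp [wmat, Matrix.det_fin_three]) ?_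
  ext i j
  fin_cases i <;> fin_cases j <;> simp [wmat, antiDiag, Matrix.mul_apply, Fin.sum_univ_three] <;> ring_nf

theorem mat_pow (g : Cfsg.SU 3 F 3) (n : ℕ) : mat B (g ^ n) = mat B g ^ n := by
  induction n with
  | zero => simp [mat_one]
  | succ n ih => rw [pow_succ, pow_succ, mat_mul, ih]

/-- The unipotent radical. -/
def uSub (hF : NineField F) : Subgroup (Cfsg.SU 3 F 3) where
  carrier := {g | ∃ a b, mat B g = umat a b}
  one_mem' := ⟨0, 0, by rw [mat_one, umat_zero]⟩
  mul_mem' {g h} := by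
    rintro ⟨a, b, e⟩ ⟨c, d, e'⟩
    exact ⟨_, _, by rw [mat_mul, e, e', umat_mul hF]⟩
  inv_mem' {g} := by
    rintro ⟨a, b, e⟩
    obtain ⟨k, hk⟩ := (isOfFinOrder_of_finite g).mem_powers_iff_mem_zpowers.2 (⟨-1, zpow_neg_one g⟩ : g⁻¹ ∈ Subgroup.zpowers g)
    rw [Set.mem_ofPred_eq, ← hk]
    clear hk
    induction k with
    | zero => exact ⟨0, 0, by simp only [pow_zero]; rw [mat_one, umat_zero]⟩
    | succ k ih =>
      obtain ⟨c, d, e'⟩ := ih
      exact ⟨_, _, by simp only [pow_succ]; rw [mat_mul, e', e, umat_mul hF]⟩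

/-- The Borel subgroup. -/
def bSub (hF : NineField F) : Subgroup (Cfsg.SU 3 F 3) where
  carrier := {g | ∃ a b x, x ≠ 0 ∧ mat B g = umat a b * tmat x}
  one_mem' := ⟨0, 0, 1, one_ne_zero, by rw [mat_one, umat_zero, tmat_one, Matrix.one_mul]⟩
  mul_mem' {g h} := by
    rintro ⟨a, b, x, hx, e⟩ ⟨c, d, y, hy, e'⟩
    refine ⟨a + x ^ 7 * c, x ^ 4 * d - a * (x ^ 7 * c) ^ 3 + b, x * y, mul_ne_zero hx hy, ?_⟩
    rw [mat_mul, e, e', Matrix.mul_assoc, ← Matrix.mul_assoc (tmat x), tmat_umat hF hx, Matrix.mul_assoc, tmat_mul,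
      ← Matrix.mul_assoc, umat_mul hF]
  inv_mem' {g} := by
    rintro ⟨a, b, x, hx, e⟩
    obtain ⟨k, hk⟩ := (isOfFinOrder_of_finite g).mem_powers_iff_mem_zpowers.2 (⟨-1, zpow_neg_one g⟩ : g⁻¹ ∈ Subgroup.zpowers g)
    rw [Set.mem_ofPred_eq, ← hk]
    clear hk
    induction k with
    | zero => exact ⟨0, 0, 1, one_ne_zero, by simp only [pow_zero]; rw [mat_one, umat_zero, tmat_one, Matrix.one_mul]⟩
    | succ k ih =>
      obtain ⟨c, d, y, hy, e'⟩ := ih
      refine ⟨c + y ^ 7 * a, y ^ 4 * b - c * (y ^ 7 * a) ^ 3 + d, y * x, mul_ne_zero hy hx, ?_⟩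
      show mat B (g ^ (k + 1)) = _
      change mat B (g ^ k) = _ at e'
      rw [pow_succ g k, mat_mul, e', e, Matrix.mul_assoc, ← Matrix.mul_assoc (tmat y), tmat_umat hF hy, Matrix.mul_assoc, tmat_mul,
        ← Matrix.mul_assoc, umat_mul hF]

theorem mem_uSub (hF : NineField F) {g : Cfsg.SU 3 F 3} : g ∈ uSub B hF ↔ ∃ a b, mat B g = umat a b := Iff.rfl

theorem mem_bSub (hF : NineField F) {g : Cfsg.SU 3 F 3} :
    g ∈ bSub B hF ↔ ∃ a b x, x ≠ 0 ∧ mat B g = umat a b * tmat x := Iff.rfl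

theorem uSub_le_bSub (hF : NineField F) : uSub B hF ≤ bSub B hF := fun _ ⟨a, b, e⟩ =>
  ⟨a, b, 1, one_ne_zero, by rw [e, tmat_one, Matrix.mul_one]⟩

theorem umat_tmat_apply (a b x : F) :
    umat a b * tmat x = !![x, a * x ^ 2, b * x ^ 5; 0, x ^ 2, -a ^ 3 * x ^ 5; 0, 0, x ^ 5] := by
  ext i j
  fin_cases i <;> fin_cases j <;> simp [umat, tmat, Matrix.mul_apply, Fin.sum_univ_three]

/-- The diagonal entry as a homomorphism. -/
noncomputable def diagHom (hF : NineField F) : bSub B hF →* Fˣ where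
  toFun g := Units.mk0 (mat B (g : Cfsg.SU 3 F 3) 0 0) (by
    obtain ⟨a, b, x, hx, e⟩ := g.2
    rw [e, umat_tmat_apply]; simpa using hx)
  map_one' := Units.ext (by simp [mat_one])
  map_mul' g h := Units.ext (by
    obtain ⟨a, b, x, hx, e⟩ := g.2
    obtain ⟨c, d, y, hy, e'⟩ := h.2
    rw [umat_tmat_apply] at e e'
    simp [mat_mul, e, e', umat_tmat_apply, Matrix.mul_apply, Fin.sum_univ_three])

theorem diagHom_apply (hF : NineField F) (g : bSub B hF) :
    ((diagHom B hF g : Fˣ) : F) = mat B (g : Cfsg.SU 3 F 3) 0 0 := rfl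

theorem diagHom_eq_one_iff (hF : NineField F) (g : bSub B hF) :
    diagHom B hF g = 1 ↔ (g : Cfsg.SU 3 F 3) ∈ uSub B hF := by
  obtain ⟨a, b, x, hx, e⟩ := g.2
  constructor
  · intro h
    have h1 := congrArg Units.val h
    rw [diagHom_apply, e, umat_tmat_apply] at h1
    simp at h1
    exact ⟨a, b, by rw [e, h1, tmat_one, Matrix.mul_one]⟩
  · rintro ⟨c, d, e'⟩
    refine Units.ext ?_
    rw [diagHom_apply, e']
    simp [umat]

/-- The trace map. -/
def trMap (hF : NineField F) : F →+ F where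
  toFun b := b + b ^ 3
  map_zero' := by simp
  map_add' x y := by rw [hF.add_cube]; ring

open Classical in
theorem trMap_facts (hF : NineField F) : Nat.card (trMap hF).ker = 3 ∧ ∀ c : F, c ^ 3 = c → ∃ b, b + b ^ 3 = c := by
  have key : ∀ (e : F), Set.ncard {x : F | x ^ 3 = e * x} ≤ 3 := by
    intro e
    set p : Polynomial F := Polynomial.X ^ 3 - Polynomial.C e * Polynomial.X
    have hp : p.natDegree = 3 := by simp only [p]; compute_degree!
    have hp0 : p ≠ 0 := fun h => by rw [h] at hp; simp at hp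
    calc Set.ncard {x : F | x ^ 3 = e * x} ≤ (p.roots.toFinset : Set F).ncard := Set.ncard_le_ncard (fun x hx => by
          have hx' : x ^ 3 = e * x := hx
          simp [p, Polynomial.mem_roots', hp0, hx']) (Set.toFinite _)
      _ ≤ 3 := by
          rw [Set.ncard_coe_finset]
          exact (Multiset.toFinset_card_le _).trans ((Polynomial.card_roots' p).trans hp.le)
  have h9 : Nat.card F = 9 := by rw [Nat.card_eq_fintype_card]; exact hF.trans (by norm_num)
  have hm : Nat.card (trMap hF).ker * Nat.card (trMap hF).range = 9 := by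
    rw [← h9, ← Nat.card_congr (QuotientAddGroup.quotientKerEquivRange (trMap hF)).toEquiv, mul_comm]
    exact ((trMap hF).ker.card_eq_card_quotient_mul_card_addSubgroup).symm
  have hk : Nat.card (trMap hF).ker ≤ 3 := by
    refine le_trans (le_of_eq ?_) (key (-1))
    rw [← Nat.card_coe_set_eq]
    refine Nat.card_congr (Equiv.subtypeEquivRight fun x => ?_)
    simp only [AddMonoidHom.mem_ker, Set.mem_ofPred_eq]
    exact ⟨fun h => by have h' : x + x ^ 3 = 0 := h; linear_combination h', fun h => show x + x ^ 3 = 0 by linear_combination h⟩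
  have hsub : ((trMap hF).range : Set F) ⊆ {x : F | x ^ 3 = 1 * x} := by
    rintro _ ⟨b, rfl⟩
    show (b + b ^ 3) ^ 3 = 1 * (b + b ^ 3)
    rw [hF.add_cube, ← pow_mul, hF.pow_nine]; ring
  have hr : Nat.card (trMap hF).range ≤ 3 := by
    rw [← SetLike.coe_sort_coe, Nat.card_coe_set_eq]
    exact (Set.ncard_le_ncard hsub (Set.toFinite _)).trans (key 1)
  have hkpos : 0 < Nat.card (trMap hF).ker := Nat.card_pos
  refine ⟨by nlinarith, fun c hc => ?_⟩
  have hr3 : Set.ncard ((trMap hF).range : Set F) = 3 := by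
    rw [← Nat.card_coe_set_eq, SetLike.coe_sort_coe]; nlinarith
  have heq := Set.eq_of_subset_of_ncard_le hsub ((key 1).trans hr3.ge) (Set.toFinite _)
  obtain ⟨b, hb⟩ := (Set.ext_iff.1 heq c).2 (by show c ^ 3 = 1 * c; rw [hc, one_mul])
  exact ⟨b, hb⟩

theorem exists_cond (hF : NineField F) (a : F) : ∃ b, Cond a b := by
  obtain ⟨b, hb⟩ := (trMap_facts hF).2 (-(a ^ 4)) (by
    have := hF.pow_nine a
    rw [neg_pow, ← pow_mul, show (4 * 3 : ℕ) = 9 + 3 by norm_num, pow_add, this]; ring)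
  exact ⟨b, show b + b ^ 3 + a ^ 4 = 0 by rw [hb]; ring⟩

theorem card_uSub (hF : NineField F) : Nat.card (uSub B hF) = 27 := by
  classical
  haveI : Fintype {p : F × F // Cond p.1 p.2} := Fintype.ofFinite _
  have e : Nat.card {p : F × F // Cond p.1 p.2} = 27 := by
    choose b0 hb0 using exists_cond hF
    let e : {p : F × F // Cond p.1 p.2} ≃ F × (trMap hF).ker :=
      { toFun := fun p => (p.1.1, ⟨p.1.2 - b0 p.1.1, by
          have h1 : p.1.2 + p.1.2 ^ 3 + p.1.1 ^ 4 = 0 := p.2
          have h2 : b0 p.1.1 + b0 p.1.1 ^ 3 + p.1.1 ^ 4 = 0 := hb0 _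
          rw [AddMonoidHom.mem_ker, map_sub]
          show (p.1.2 + p.1.2 ^ 3) - (b0 p.1.1 + b0 p.1.1 ^ 3) = 0
          linear_combination h1 - h2⟩)
        invFun := fun q => ⟨(q.1, b0 q.1 + q.2), by
          have h1 : (q.2 : F) + (q.2 : F) ^ 3 = 0 := q.2.2
          have h2 : b0 q.1 + b0 q.1 ^ 3 + q.1 ^ 4 = 0 := hb0 _
          show _ + _ + _ = 0
          rw [hF.add_cube]; linear_combination h1 + h2⟩
        left_inv := fun p => by ext <;> simp
        right_inv := fun q => by ext <;> simp }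
    rw [Nat.card_congr e, Nat.card_prod, (trMap_facts hF).1, Nat.card_eq_fintype_card, hF]; norm_num
  rw [← e]
  have hinj : ∀ {a b c d : F}, umat a b = umat c d → a = c ∧ b = d := fun h =>
    ⟨by simpa [umat] using congrFun (congrFun h 0) 1, by simpa [umat] using congrFun (congrFun h 0) 2⟩
  symm
  refine Nat.card_congr (Equiv.ofBijective (fun p => ⟨(exists_umat B hF p.2).choose, _, _,
    (exists_umat B hF p.2).choose_spec⟩) ⟨fun p p' h => ?_, fun g => ?_⟩)
  · have h1 := congrArg (fun g : uSub B hF => mat B (g : Cfsg.SU 3 F 3)) h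
    simp only [(exists_umat B hF p.2).choose_spec, (exists_umat B hF p'.2).choose_spec] at h1
    exact Subtype.ext (Prod.ext (hinj h1).1 (hinj h1).2)
  · obtain ⟨g, a, b, e'⟩ := g
    exact ⟨⟨(a, b), cond_of_umat B hF e'⟩, Subtype.ext (mat_inj B (by
      rw [(exists_umat B hF (cond_of_umat B hF e' : Cond (a, b).1 (a, b).2)).choose_spec, e']))⟩

end Cfsg.Lib.U33
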