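import Mathlib
import Cfsg.Agent.Lib.U33.Model
import Cfsg.Agent.Lib.Linear.HermStandard
import Cfsg.Agent.Lib.Linear.UnitaryCenter

/-!
# Double cosets and fusion in the Borel subgroup of `SU(3, 3)`
-/

set_option autoImplicit false
set_option linter.unusedSectionVars false
set_option linter.unusedSimpArgs false
set_option linter.style.longLine false
set_option linter.style.haveILetI false

open Matrix Cfsg.Lib.Spec.UThree

namespace Cfsg.Lib.U33

universe u

variable {F : Type u} [Field F] [Fintype F] (B : Frame F) (hF : NineField F)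

include hF in
theorem card_su : Nat.card (Cfsg.SU 3 F 3) = 6048 := by
  have h := Cfsg.Lib.Linear.Herm.card_SU (q := 3) hF (by norm_num : 1 ≤ 3)
  rw [Cfsg.Lib.Linear.Herm.card_GU (q := 3) hF 3] at h
  simp only [Finset.prod_range_succ, Finset.prod_range_zero] at h
  simp [show Even 2 from even_two] at h
  omega

include hF in
theorem center_su : Subgroup.center (Cfsg.SU 3 F 3) = ⊥ := by
  rw [Subgroup.eq_bot_iff_card, Cfsg.Lib.Linear.Herm.card_center_SU (q := 3) hF (by norm_num : 2 ≤ 3)]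
  rfl

include hF in
theorem isSimple_su : IsSimpleGroup (Cfsg.SU 3 F 3) := by
  haveI := (Cfsg.Lib.FusionSys.Lin.psu_three_simple_perfect (q := 3) hF le_rfl).1
  exact MulEquiv.isSimpleGroup
    ((QuotientGroup.quotientBot (G := Cfsg.SU 3 F 3)).symm.trans (QuotientGroup.quotientMulEquivOfEq (center_su hF).symm))

/-- The torus. -/
noncomputable def torEl : Fˣ →* bSub B hF where
  toFun x := ⟨(exists_tmat B hF x.ne_zero).choose, 0, 0, x, x.ne_zero, by
    rw [(exists_tmat B hF x.ne_zero).choose_spec, umat_zero, Matrix.one_mul]⟩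
  map_one' := Subtype.ext (mat_inj B (by
    rw [(exists_tmat B hF (1 : Fˣ).ne_zero).choose_spec, Subgroup.coe_one, mat_one, Units.val_one, tmat_one]))
  map_mul' x y := Subtype.ext (mat_inj B (by
    rw [(exists_tmat B hF (x * y).ne_zero).choose_spec, Subgroup.coe_mul, mat_mul,
      (exists_tmat B hF x.ne_zero).choose_spec, (exists_tmat B hF y.ne_zero).choose_spec, tmat_mul, Units.val_mul]))

theorem mat_torEl (x : Fˣ) : mat B (torEl B hF x : Cfsg.SU 3 F 3) = tmat (x : F) :=
  (exists_tmat B hF x.ne_zero).choose_spec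

theorem diagHom_torEl (x : Fˣ) : diagHom B hF (torEl B hF x) = x :=
  Units.ext (by rw [diagHom_apply, mat_torEl]; simp [tmat])

/-- The antidiagonal element. -/
noncomputable def wel : Cfsg.SU 3 F 3 := (exists_wmat B hF).choose

theorem mat_wel : mat B (wel B hF) = wmat F := (exists_wmat B hF).choose_spec

theorem card_bSub : Nat.card (bSub B hF) = 216 := by
  have hk : (diagHom B hF).ker = (uSub B hF).subgroupOf (bSub B hF) := by
    ext g
    rw [MonoidHom.mem_ker, diagHom_eq_one_iff, Subgroup.mem_subgroupOf]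
  have hsurj : Function.Surjective (diagHom B hF) := fun x => ⟨torEl B hF x, diagHom_torEl B hF x⟩
  have h := (diagHom B hF).ker.card_mul_index
  rw [Subgroup.index_ker, MonoidHom.range_eq_top.2 hsurj, Subgroup.card_top, hk,
    Nat.card_congr (Subgroup.subgroupOfEquivOfLe (uSub_le_bSub B hF)).toEquiv, card_uSub, Nat.card_units,
    Nat.card_eq_fintype_card (α := F), hF] at h
  omega

theorem wel_mul_wel : wel B hF * wel B hF = 1 := mat_inj B (by
  rw [mat_mul, mat_wel, mat_one]
  ext i j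
  fin_cases i <;> fin_cases j <;> simp [wmat, Matrix.mul_apply, Fin.sum_univ_three])

theorem wel_inv : (wel B hF)⁻¹ = wel B hF := inv_eq_of_mul_eq_one_left (wel_mul_wel B hF)

theorem torEl_wel (x : Fˣ) : (torEl B hF x : Cfsg.SU 3 F 3) * wel B hF = wel B hF * (torEl B hF (x ^ 5) : Cfsg.SU 3 F 3) := by
  refine mat_inj B ?_
  have h := hF.pow_eight x.ne_zero
  rw [mat_mul, mat_mul, mat_wel, mat_torEl, mat_torEl, Units.val_pow_eq_pow_val]
  ext i j
  fin_cases i <;> fin_cases j <;> simp [wmat, tmat, Matrix.mul_apply, Fin.sum_univ_three] <;> grind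

/-- An element of the Borel subgroup that `w` conjugates into it lies in the torus. -/
theorem eq_torEl_of_conj {g : Cfsg.SU 3 F 3} (hg : g ∈ bSub B hF) (hgw : wel B hF * g * wel B hF ∈ bSub B hF) :
    ∃ x : Fˣ, g = (torEl B hF x : Cfsg.SU 3 F 3) := by
  obtain ⟨a, b, x, hx, e⟩ := hg
  obtain ⟨c, d, y, hy, e'⟩ := hgw
  rw [mat_mul, mat_mul, mat_wel, e, umat_tmat_apply, umat_tmat_apply] at e'
  have h20 := congrFun (congrFun e' 2) 0
  have h21 := congrFun (congrFun e' 2) 1
  simp [wmat, Matrix.mul_apply, Fin.sum_univ_three, hx] at h20 h21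
  exact ⟨Units.mk0 x hx, mat_inj B (by rw [e, mat_torEl, h20, h21, umat_zero, Matrix.one_mul]; rfl)⟩

theorem eq_one_of_uSub_conj {g : Cfsg.SU 3 F 3} (hg : g ∈ uSub B hF) (hgw : wel B hF * g * wel B hF ∈ bSub B hF) :
    g = 1 := by
  obtain ⟨x, rfl⟩ := eq_torEl_of_conj B hF (uSub_le_bSub B hF hg) hgw
  obtain ⟨a, b, e⟩ := hg
  rw [mat_torEl] at e
  have h1 : (x : F) = 1 := by simpa [tmat, umat] using congrFun (congrFun e 0) 0
  rw [show x = 1 from Units.ext h1, map_one, Subgroup.coe_one]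

theorem wel_notMem : wel B hF ∉ bSub B hF := by
  rintro ⟨a, b, x, hx, e⟩
  rw [mat_wel, umat_tmat_apply] at e
  have := congrFun (congrFun e 2) 0
  simp [wmat] at this

/-- The two double cosets. -/
noncomputable def cellMap : (bSub B hF) ⊕ ((uSub B hF) × (bSub B hF)) → Cfsg.SU 3 F 3
  | Sum.inl p => p
  | Sum.inr q => (q.1 : Cfsg.SU 3 F 3) * wel B hF * (q.2 : Cfsg.SU 3 F 3)

theorem cellMap_bijective : Function.Bijective (cellMap B hF) := by
  classical
  haveI := Fintype.ofFinite (bSub B hF)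
  haveI := Fintype.ofFinite (uSub B hF)
  haveI := Fintype.ofFinite (Cfsg.SU 3 F 3)
  rw [Fintype.bijective_iff_injective_and_card]
  have hne : ∀ (p : bSub B hF) (q : (uSub B hF) × (bSub B hF)),
      (p : Cfsg.SU 3 F 3) ≠ (q.1 : Cfsg.SU 3 F 3) * wel B hF * (q.2 : Cfsg.SU 3 F 3) := fun p q h => by
    refine wel_notMem B hF ?_
    rw [show wel B hF = (q.1 : Cfsg.SU 3 F 3)⁻¹ * (p : Cfsg.SU 3 F 3) * (q.2 : Cfsg.SU 3 F 3)⁻¹ by rw [h]; group]
    exact mul_mem (mul_mem (inv_mem (uSub_le_bSub B hF q.1.2)) p.2) (inv_mem q.2.2)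
  refine ⟨?_, ?_⟩
  · rintro (p | q) (p' | q') h
    · exact congrArg Sum.inl (Subtype.ext h)
    · exact absurd h (hne p q')
    · exact absurd h.symm (hne p' q)
    · have h' : (q.1 : Cfsg.SU 3 F 3) * wel B hF * (q.2 : Cfsg.SU 3 F 3) = (q'.1 : Cfsg.SU 3 F 3) * wel B hF * (q'.2 : Cfsg.SU 3 F 3) := h
      have e : wel B hF * ((q'.1 : Cfsg.SU 3 F 3)⁻¹ * q.1) * wel B hF = (q'.2 : Cfsg.SU 3 F 3) * (q.2 : Cfsg.SU 3 F 3)⁻¹ := by
        rw [show (q.1 : Cfsg.SU 3 F 3) = q'.1 * wel B hF * q'.2 * (q.2 : Cfsg.SU 3 F 3)⁻¹ * (wel B hF)⁻¹ by rw [← h']; group,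
          wel_inv]
        simp [mul_assoc, wel_mul_wel, ← mul_assoc (wel B hF) (wel B hF)]
      have h1 := eq_one_of_uSub_conj B hF (mul_mem (inv_mem q'.1.2) q.1.2) (by rw [e]; exact mul_mem q'.2.2 (inv_mem q.2.2))
      have hu : q'.1 = q.1 := Subtype.ext (inv_mul_eq_one.1 h1)
      rw [hu] at h'
      exact congrArg Sum.inr (Prod.ext hu.symm (Subtype.ext (mul_left_cancel h')))
  · rw [Fintype.card_sum, Fintype.card_prod, ← Nat.card_eq_fintype_card, ← Nat.card_eq_fintype_card,
      ← Nat.card_eq_fintype_card, card_bSub, card_uSub, card_su hF]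

/-- The central element with parameter `k`. -/
theorem exists_generator (hF : NineField F) : ∃ k : F, k ≠ 0 ∧ k + k ^ 3 = 0 := by
  obtain ⟨h, -⟩ := trMap_facts hF
  haveI : Finite (trMap hF).ker := inferInstance
  haveI : Nontrivial (trMap hF).ker := Finite.one_lt_card_iff_nontrivial.1 (by rw [h]; norm_num)
  obtain ⟨k, hk⟩ := exists_ne (0 : (trMap hF).ker)
  exact ⟨k, fun e => hk (Subtype.ext e), k.2⟩

/-- All elements of `U` outside its centre are conjugate in the Borel subgroup. -/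
theorem isConj_of_uSub (hF : NineField F) {g h : Cfsg.SU 3 F 3} {a b : F} (hg : mat B g = umat a b) (ha : a ≠ 0)
    (hh : mat B h = umat 1 1) : IsConj h g := by
  have h9 := hF.pow_nine a
  have h8 := hF.pow_eight ha
  have h3 := hF.three
  obtain ⟨t, ht⟩ := exists_tmat B hF (inv_ne_zero ha)
  have hb : b + b ^ 3 + a ^ 4 = 0 := cond_of_umat B hF hg
  set c := a ^ 5 * (b - a ^ 4)
  obtain ⟨e, he⟩ := exists_cond hF c
  obtain ⟨s, hs⟩ := exists_umat B hF he
  refine isConj_iff.2 ⟨s * t, ?_⟩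
  suffices key : mat B ((s * t) * h) = mat B (g * (s * t)) by rw [mat_inj B key, mul_inv_cancel_right]
  simp only [mat_mul, hs, ht, hh, hg]
  rw [Matrix.mul_assoc, tmat_umat hF (inv_ne_zero ha), ← Matrix.mul_assoc,
    ← Matrix.mul_assoc, umat_mul hF, umat_mul hF]
  have h7 : a⁻¹ ^ 7 * 1 = a := by rw [mul_one, inv_pow]; exact inv_eq_of_mul_eq_one_left (by linear_combination h8)
  have h4 : a⁻¹ ^ 4 * 1 = a ^ 4 := by rw [mul_one, inv_pow]; exact inv_eq_of_mul_eq_one_left (by linear_combination h8)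
  rw [h7, h4]
  congr 2
  · ring
  · simp only [c]
    grind

end Cfsg.Lib.U33
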