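import Mathlib
import Cfsg.Agent.Lib.Char.Central
import Cfsg.Agent.Lib.Char.Induced

/-!
# Congruences for character values at commuting elements of order three
-/

set_option autoImplicit false
set_option linter.unusedSectionVars false

open scoped ComplexConjugate
open Cfsg

namespace Cfsg.Lib.U33

universe u v

variable {X : Type u} [Group X]

/-- A character summed against a linear character along a homomorphism. -/
theorem exists_nat_sum_hom {A : Type v} [Group A] [Fintype A] {χ : X → ℂ} (hχ : IsCharacter X χ)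
    (φ : A →* X) (l : A →* ℂˣ) : ∃ c : ℕ, ∑ a, χ (φ a) * ((l a : ℂˣ) : ℂ) = (Nat.card A : ℂ) * c := by
  obtain ⟨c, hc⟩ := ((hχ.comp φ).mul (Cfsg.Lib.Char.isIrrCharacter_linear l).isCharacter).exists_nat_classInner
    (Cfsg.Lib.Char.isCharacter_one (G := A))
  refine ⟨c, ?_⟩
  rw [← hc, classInner, ← mul_assoc, mul_inv_cancel₀ (by exact_mod_cast Nat.card_pos.ne'), one_mul]
  simp

/-- The pairing `(i, j) ↦ z ^ i * u ^ j`. -/
def threeHom {Y : Type v} [Group Y] (z u : Y) (hz : z ^ 3 = 1) (hu : u ^ 3 = 1) (hc : Commute z u) :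
    Multiplicative (ZMod 3 × ZMod 3) →* Y where
  toFun p := z ^ p.toAdd.1.val * u ^ p.toAdd.2.val
  map_one' := by simp
  map_mul' p q := by
    simp only [toAdd_mul, Prod.fst_add, Prod.snd_add, ZMod.val_add, ← pow_eq_pow_mod _ hz, ← pow_eq_pow_mod _ hu,
      pow_add]
    rw [((hc.pow_pow _ _).symm).mul_mul_mul_comm]

theorem threeHom_apply {Y : Type v} [Group Y] (z u : Y) (hz : z ^ 3 = 1) (hu : u ^ 3 = 1) (hc : Commute z u)
    (i j : ZMod 3) : threeHom z u hz hu hc (Multiplicative.ofAdd (i, j)) = z ^ i.val * u ^ j.val := rfl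

/-- If `χ` is constant on the cosets of `⟨z⟩` in `⟨z, u⟩` other than `⟨z⟩`, then `χ 1 - χ z` is a multiple of 9. -/
theorem exists_nine {χ : X → ℂ} (hχ : IsCharacter X χ) {z u : X} (hz : z ^ 3 = 1) (hu : u ^ 3 = 1)
    (hc : Commute z u) (hzz : χ (z ^ 2) = χ z) (hu1 : χ (z * u) = χ u) (hu2 : χ (z ^ 2 * u) = χ u)
    (hv1 : χ (z * u ^ 2) = χ (u ^ 2)) (hv2 : χ (z ^ 2 * u ^ 2) = χ (u ^ 2)) :
    ∃ c : ℕ, χ 1 - χ z = 9 * (c : ℂ) := by
  have hω : IsPrimitiveRoot (Complex.exp (2 * Real.pi * Complex.I / (3 : ℕ))) 3 :=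
    Complex.isPrimitiveRoot_exp 3 (by norm_num)
  set ω := Complex.exp (2 * Real.pi * Complex.I / (3 : ℕ))
  have hω0 : ω ≠ 0 := hω.ne_zero (by norm_num)
  let w : ℂˣ := Units.mk0 ω hω0
  have hw : w ^ 3 = 1 := Units.ext (by simpa [w] using hω.pow_eq_one)
  have hsum : ω ^ 2 = -1 - ω := by
    have h := hω.geom_sum_eq_zero (by norm_num)
    simp [Finset.sum_range_succ] at h
    linear_combination h
  obtain ⟨c, h⟩ := exists_nat_sum_hom hχ (threeHom z u hz hu hc) (threeHom w 1 hw (one_pow 3) (Commute.one_right w))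
  refine ⟨c, ?_⟩
  rw [← Equiv.sum_comp Multiplicative.ofAdd, Fintype.sum_prod_type] at h
  simp only [threeHom_apply, one_pow, mul_one] at h
  rw [show Nat.card (Multiplicative (ZMod 3 × ZMod 3)) = 9 by simp, Nat.cast_ofNat] at h
  rw [← h]
  change _ = ∑ i : Fin 3, ∑ j : Fin 3, _
  simp only [Fin.sum_univ_three]
  change _ = χ (z ^ 0 * u ^ 0) * ((w ^ 0 : ℂˣ) : ℂ) + χ (z ^ 0 * u ^ 1) * ((w ^ 0 : ℂˣ) : ℂ) + χ (z ^ 0 * u ^ 2) * ((w ^ 0 : ℂˣ) : ℂ) +
    (χ (z ^ 1 * u ^ 0) * ((w ^ 1 : ℂˣ) : ℂ) + χ (z ^ 1 * u ^ 1) * ((w ^ 1 : ℂˣ) : ℂ) + χ (z ^ 1 * u ^ 2) * ((w ^ 1 : ℂˣ) : ℂ)) +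
    (χ (z ^ 2 * u ^ 0) * ((w ^ 2 : ℂˣ) : ℂ) + χ (z ^ 2 * u ^ 1) * ((w ^ 2 : ℂˣ) : ℂ) + χ (z ^ 2 * u ^ 2) * ((w ^ 2 : ℂˣ) : ℂ))
  simp only [pow_zero, pow_one, one_mul, mul_one, Units.val_one, Units.val_pow_eq_pow_val, hzz, hu1, hu2, hv1, hv2,
    show ((w : ℂˣ) : ℂ) = ω from rfl, hsum]
  ring

/-- The sum over a normal subgroup of an irreducible character whose kernel does not contain it vanishes. -/
theorem sum_normal_eq_zero [Fintype X] {χ : X → ℂ} (hχ : IsIrrCharacter X χ) (N : Subgroup X) [hN : N.Normal]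
    [Fintype N] {n₀ : X} (hn₀ : n₀ ∈ N) (hne : χ n₀ ≠ χ 1) : ∑ n : N, χ n = 0 := by
  classical
  obtain ⟨d, ρ, hρ, rfl⟩ := hχ
  haveI := hρ
  let f : X → ℂ := fun g => if g ∈ N then 1 else 0
  have hf : IsClassFunction X f := fun g h =>
    if_congr ⟨fun hh => by simpa [mul_assoc] using hN.conj_mem _ hh h⁻¹, fun hh => hN.conj_mem _ hh h⟩ rfl rfl
  have key := Cfsg.Lib.Char.averageOp_irreducible ρ hf
  set c := (∑ g, f g * ρ.character g) / (Module.finrank ℂ (Fin d → ℂ) : ℂ) with hc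
  have hsum : ∑ g, f g * ρ.character g = ∑ n : N, ρ.character n := by
    simp only [f, ite_mul, one_mul, zero_mul]
    rw [← Finset.sum_filter, Finset.sum_subtype (p := fun g => g ∈ N) _ (fun g => by simp)]
  by_contra hne0
  have hc0 : c ≠ 0 := by
    rw [hc, hsum]
    exact div_ne_zero hne0 (Nat.cast_ne_zero.mpr (Cfsg.Lib.Char.irreducible_finrank_pos ρ).ne')
  have hfix : ρ n₀ * Cfsg.Lib.Char.averageOp ρ f = Cfsg.Lib.Char.averageOp ρ f := by
    simp only [Cfsg.Lib.Char.averageOp, Finset.mul_sum, mul_smul_comm, ← map_mul]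
    refine Fintype.sum_equiv (Equiv.mulLeft n₀) _ _ fun g => ?_
    simp only [Equiv.coe_mulLeft, f, Subgroup.mul_mem_cancel_left _ hn₀]
  rw [key] at hfix
  apply hne
  have h1 : ρ n₀ = 1 := by
    refine LinearMap.ext fun x => smul_right_injective _ hc0 ?_
    simpa using LinearMap.congr_fun hfix x
  simp [Representation.character, h1]

end Cfsg.Lib.U33
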