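import Mathlib
import Cfsg.Agent.Lib.U33.CharLemmas
import Cfsg.Agent.Lib.U33.Borel
import Cfsg.Agent.Lib.Char.Constituents
import Cfsg.Agent.Lib.Char.Formulas
import Cfsg.Prelude.Def_DegreeGraph

/-!
# Characters of degree divisible by 6, 14 and 21 of `SU(3, 3)`
-/

set_option autoImplicit false
set_option linter.unusedSectionVars false
set_option linter.unusedSimpArgs false
set_option linter.style.longLine false
set_option linter.style.haveILetI false

open scoped ComplexConjugate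
open Matrix Cfsg

namespace Cfsg.Lib.U33

universe u

section Main

variable {F : Type u} [Field F] [Fintype F] (B : Frame F) (hF : NineField F)

/-- A generator of the multiplicative group. -/
noncomputable def gen : Fˣ := (IsCyclic.exists_generator (α := Fˣ)).choose

theorem mem_zpowers_gen (x : Fˣ) : x ∈ Subgroup.zpowers (gen (F := F)) :=
  (IsCyclic.exists_generator (α := Fˣ)).choose_spec x

include hF in
theorem card_units_nine : Nat.card Fˣ = 8 := by
  rw [Nat.card_units, Nat.card_eq_fintype_card, hF]; norm_num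

include hF in
theorem orderOf_gen : orderOf (gen (F := F)) = 8 := by
  rw [orderOf_eq_card_of_forall_mem_zpowers mem_zpowers_gen, card_units_nine hF]

/-- A primitive eighth root of unity. -/
noncomputable def zeta8 : ℂˣ := Units.mk0 (Complex.exp (2 * Real.pi * Complex.I / (8 : ℕ))) (Complex.exp_ne_zero _)

theorem zeta8_prim : IsPrimitiveRoot ((zeta8 : ℂˣ) : ℂ) 8 := Complex.isPrimitiveRoot_exp 8 (by norm_num)

include hF in
theorem orderOf_zeta8 : orderOf zeta8 ∣ orderOf (gen (F := F)) := by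
  rw [orderOf_gen hF]
  exact orderOf_dvd_of_pow_eq_one (Units.ext (by simpa using zeta8_prim.pow_eq_one))

/-- A faithful linear character of the multiplicative group. -/
noncomputable def chi0 : Fˣ →* ℂˣ := monoidHomOfForallMemZpowers mem_zpowers_gen (orderOf_zeta8 hF)

theorem chi0_gen : chi0 hF (gen (F := F)) = zeta8 := monoidHomOfForallMemZpowers_apply_gen _ _

/-- The linear characters of the Borel subgroup. -/
noncomputable def lam (k : ℕ) : bSub B hF →* ℂˣ := ((chi0 hF).comp (diagHom B hF)) ^ k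

theorem lam_apply (k : ℕ) (p : bSub B hF) : ((lam B hF k p : ℂˣ) : ℂ) = ((chi0 hF (diagHom B hF p) : ℂˣ) : ℂ) ^ k := by
  simp [lam]

theorem chi0_pow_eight (x : Fˣ) : ((chi0 hF x : ℂˣ) : ℂ) ^ 8 = 1 := by
  rw [← Units.val_pow_eq_pow_val, ← map_pow, show x ^ 8 = 1 from card_units_nine hF ▸ pow_card_eq_one', map_one, Units.val_one]

theorem conj_lam (k : ℕ) (p : bSub B hF) : conj ((lam B hF k p : ℂˣ) : ℂ) = ((lam B hF (7 * k) p : ℂˣ) : ℂ) := by
  rw [lam_apply, lam_apply, map_pow, pow_mul]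
  congr 1
  set z := ((chi0 hF (diagHom B hF p) : ℂˣ) : ℂ)
  have h8 : z ^ 8 = 1 := chi0_pow_eight hF _
  have hn : ‖z‖ = 1 := Complex.norm_eq_one_of_pow_eq_one h8 (by norm_num)
  rw [← Complex.inv_eq_conj hn]
  exact inv_eq_of_mul_eq_one_right (by rw [← h8]; ring)

theorem sum_chi0_pow [DecidableEq F] (m : ℕ) : ∑ x : Fˣ, ((chi0 hF x : ℂˣ) : ℂ) ^ m = if 8 ∣ m then 8 else 0 := by
  classical
  let f : Fˣ →* ℂ := (Units.coeHom ℂ).comp ((chi0 hF) ^ m)
  have hf : ∀ x, ((chi0 hF x : ℂˣ) : ℂ) ^ m = f x := fun x => by simp [f]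
  simp only [hf]
  rw [sum_hom_units]
  have hiff : f = 1 ↔ 8 ∣ m := by
    rw [← zeta8_prim.pow_eq_one_iff_dvd m, ← chi0_gen hF, hf]
    refine ⟨fun h => by rw [h]; rfl, fun h => MonoidHom.ext fun x => ?_⟩
    obtain ⟨i, hi⟩ := mem_powers_iff_mem_zpowers.2 (mem_zpowers_gen x)
    rw [← hi]; simp only [map_pow, h, one_pow, MonoidHom.one_apply]
  by_cases h : 8 ∣ m
  · rw [if_pos (hiff.2 h), if_pos h, ← Nat.card_eq_fintype_card, card_units_nine hF]; norm_num
  · rw [if_neg (fun e => h (hiff.1 e)), if_neg h, Nat.cast_zero]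

theorem sum_lam [Fintype (bSub B hF)] (m : ℕ) :
    ∑ p : bSub B hF, ((lam B hF m p : ℂˣ) : ℂ) = if 8 ∣ m then 216 else 0 := by
  classical
  have hsurj : ∀ x, diagHom B hF (torEl B hF x) = x := diagHom_torEl B hF
  let f : bSub B hF →* ℂ := (Units.coeHom ℂ).comp (lam B hF m)
  have hf : ∀ p, ((lam B hF m p : ℂˣ) : ℂ) = f p := fun p => rfl
  simp only [hf]
  rw [sum_hom_units]
  have hiff : f = 1 ↔ 8 ∣ m := by
    rw [← zeta8_prim.pow_eq_one_iff_dvd m, ← chi0_gen hF]
    refine ⟨fun h => ?_, fun h => MonoidHom.ext fun p => ?_⟩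
    · rw [← hsurj (gen (F := F)), ← lam_apply, hf, h]; rfl
    · rw [← hf, lam_apply]
      obtain ⟨i, hi⟩ := mem_powers_iff_mem_zpowers.2 (mem_zpowers_gen (diagHom B hF p))
      rw [← hi]
      simp only [map_pow, Units.val_pow_eq_pow_val, ← pow_mul, mul_comm i m]
      rw [pow_mul, h, one_pow]; rfl
  by_cases h : 8 ∣ m
  · rw [if_pos (hiff.2 h), if_pos h, ← Nat.card_eq_fintype_card, card_bSub]; norm_num
  · rw [if_neg (fun e => h (hiff.1 e)), if_neg h, Nat.cast_zero]

variable [Fintype (Cfsg.SU 3 F 3)] [Fintype (bSub B hF)] [Fintype (uSub B hF)]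

/-- The induced characters. -/
noncomputable def ind (k : ℕ) : Cfsg.SU 3 F 3 → ℂ := indFun (bSub B hF) fun p => ((lam B hF k p : ℂˣ) : ℂ)

theorem isCharacter_ind (k : ℕ) : IsCharacter (Cfsg.SU 3 F 3) (ind B hF k) :=
  Char.isCharacter_indFun _ (Char.isIrrCharacter_linear (lam B hF k)).isCharacter

theorem ind_apply_one (k : ℕ) : ind B hF k 1 = 28 := by
  have hi : (bSub B hF).index = 28 := by
    have h := (bSub B hF).card_mul_index
    rw [card_bSub, card_su hF] at h; omega
  rw [ind, Char.indFun_apply_one, map_one, Units.val_one, mul_one, hi]; norm_num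

theorem ind_apply (k : ℕ) (p : bSub B hF) : ind B hF k (p : Cfsg.SU 3 F 3) = ((lam B hF k p : ℂˣ) : ℂ) +
    ∑ u : uSub B hF, extendByZero (bSub B hF) (fun q => ((lam B hF k q : ℂˣ) : ℂ))
      (wel B hF * ((u : Cfsg.SU 3 F 3)⁻¹ * p * u) * wel B hF) := by
  classical
  set E := fun y => extendByZero (bSub B hF) (fun q => ((lam B hF k q : ℂˣ) : ℂ)) y
  have hE : ∀ (q : bSub B hF) (y : Cfsg.SU 3 F 3), E ((q : Cfsg.SU 3 F 3)⁻¹ * y * q) = E y := by
    intro q y
    by_cases hy : y ∈ bSub B hF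
    · obtain ⟨y', rfl⟩ : ∃ y' : bSub B hF, (y' : Cfsg.SU 3 F 3) = y := ⟨⟨y, hy⟩, rfl⟩
      simp only [E]
      rw [show (q : Cfsg.SU 3 F 3)⁻¹ * y' * q = ((q⁻¹ * y' * q : bSub B hF) : Cfsg.SU 3 F 3) by simp,
        Char.extendByZero_coe, Char.extendByZero_coe, map_mul, map_mul, map_inv, mul_comm (lam B hF k q)⁻¹,
        inv_mul_cancel_right]
    · simp only [E]
      rw [Char.extendByZero_of_notMem _ _ hy, Char.extendByZero_of_notMem _ _ (fun h => hy ?_)]
      have := mul_mem (mul_mem q.2 h) (inv_mem q.2)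
      simpa [mul_assoc] using this
  change (Nat.card (bSub B hF) : ℂ)⁻¹ * ∑ x, E (x⁻¹ * p * x) = _
  rw [← (Equiv.ofBijective _ (cellMap_bijective B hF)).sum_comp, Fintype.sum_sum_type, Fintype.sum_prod_type]
  simp only [Equiv.ofBijective_apply, cellMap, hE]
  have h2 : ∀ (u : uSub B hF) (q : bSub B hF), E (((u : Cfsg.SU 3 F 3) * wel B hF * q)⁻¹ * p * ((u : Cfsg.SU 3 F 3) * wel B hF * q)) =
      E (wel B hF * ((u : Cfsg.SU 3 F 3)⁻¹ * p * u) * wel B hF) := by
    intro u q
    rw [show ((u : Cfsg.SU 3 F 3) * wel B hF * q)⁻¹ * p * ((u : Cfsg.SU 3 F 3) * wel B hF * q) =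
      (q : Cfsg.SU 3 F 3)⁻¹ * ((wel B hF)⁻¹ * ((u : Cfsg.SU 3 F 3)⁻¹ * p * u) * wel B hF) * q by group, hE, wel_inv]
  simp only [h2, Finset.sum_const, Finset.card_univ, nsmul_eq_mul, ← Finset.mul_sum]
  rw [← Nat.card_eq_fintype_card, ← mul_add, inv_mul_cancel_left₀ (by exact_mod_cast Nat.card_pos.ne')]
  congr 1
  exact Char.extendByZero_coe _ _ _

/-- The expected inner products. -/
def dlt (j k : ℕ) : ℕ := (if 8 ∣ j + 7 * k then 1 else 0) + (if 8 ∣ 5 * j + 7 * k then 1 else 0)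

theorem classInner_ind (j k : ℕ) : classInner (ind B hF j) (ind B hF k) = (dlt j k : ℂ) := by
  classical
  rw [show ind B hF k = indFun (bSub B hF) fun p => ((lam B hF k p : ℂˣ) : ℂ) from rfl,
    Char.classInner_indFun_right _ _ (isCharacter_ind B hF j).isClassFunction]
  simp only [classInner, conj_lam, ind_apply, add_mul, Finset.sum_mul, Finset.sum_add_distrib]
  have h1 : ∑ p : bSub B hF, ((lam B hF j p : ℂˣ) : ℂ) * ((lam B hF (7 * k) p : ℂˣ) : ℂ) =
      if 8 ∣ j + 7 * k then 216 else 0 := by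
    rw [← sum_lam B hF (j + 7 * k)]
    exact Finset.sum_congr rfl fun p _ => by rw [lam_apply, lam_apply, lam_apply, pow_add]
  set E := fun y => extendByZero (bSub B hF) (fun q => ((lam B hF j q : ℂˣ) : ℂ)) y
  have h2 : ∑ p : bSub B hF, ∑ u : uSub B hF, E (wel B hF * ((u : Cfsg.SU 3 F 3)⁻¹ * p * u) * wel B hF) *
      ((lam B hF (7 * k) p : ℂˣ) : ℂ) = 27 * (if 8 ∣ 5 * j + 7 * k then 8 else 0) := by
    rw [Finset.sum_comm, ← sum_chi0_pow hF (5 * j + 7 * k)]
    rw [Finset.sum_congr rfl (g := fun _ => ∑ x : Fˣ, ((chi0 hF x : ℂˣ) : ℂ) ^ (5 * j + 7 * k)) (fun u _ => ?_),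
      Finset.sum_const, Finset.card_univ, ← Nat.card_eq_fintype_card, card_uSub, nsmul_eq_mul]
    · norm_num
    let u' : bSub B hF := ⟨u, uSub_le_bSub B hF u.2⟩
    rw [← (MulAut.conj u').toEquiv.sum_comp]
    symm
    refine Fintype.sum_of_injective (fun x => torEl B hF x) (fun x y h => ?_) _ _ (fun p hp => ?_) fun x => ?_
    · simpa [diagHom_torEl] using congrArg (diagHom B hF) h
    · have : (u : Cfsg.SU 3 F 3)⁻¹ * ((MulAut.conj u' p : bSub B hF) : Cfsg.SU 3 F 3) * u = p := by simp [u', mul_assoc]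
      simp only [MulEquiv.toEquiv_eq_coe, EquivLike.coe_coe, this, E]
      rw [Char.extendByZero_of_notMem _ _ fun hw => hp ?_, zero_mul]
      obtain ⟨x, hx⟩ := eq_torEl_of_conj B hF p.2 hw
      exact ⟨x, Subtype.ext hx.symm⟩
    · have : (u : Cfsg.SU 3 F 3)⁻¹ * ((MulAut.conj u' (torEl B hF x) : bSub B hF) : Cfsg.SU 3 F 3) * u = torEl B hF x := by
        simp [u', mul_assoc]
      simp only [MulEquiv.toEquiv_eq_coe, EquivLike.coe_coe, this, E]
      have hd : diagHom B hF (MulAut.conj u' (torEl B hF x)) = x := by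
        rw [MulAut.conj_apply, map_mul, map_mul, map_inv, mul_inv_cancel_comm, diagHom_torEl]
      rw [mul_assoc, torEl_wel, ← mul_assoc, wel_mul_wel, one_mul, Char.extendByZero_coe, lam_apply, lam_apply, hd, diagHom_torEl,
        map_pow, Units.val_pow_eq_pow_val, ← pow_mul, ← pow_add]
  rw [h1, h2, card_bSub, dlt]
  split_ifs <;> norm_num

/-- The multiplicities in the induced characters. -/
noncomputable def mult (k : ℕ) (χ : IrrCharacter (Cfsg.SU 3 F 3)) : ℕ :=
  ((isCharacter_ind B hF k).exists_nat_classInner χ.2.isCharacter).choose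

theorem mult_spec (k : ℕ) (χ : IrrCharacter (Cfsg.SU 3 F 3)) :
    classInner (ind B hF k) (χ : Cfsg.SU 3 F 3 → ℂ) = (mult B hF k χ : ℂ) :=
  ((isCharacter_ind B hF k).exists_nat_classInner χ.2.isCharacter).choose_spec

theorem sum_mult_mul (j k : ℕ) : ∑ χ, mult B hF j χ * mult B hF k χ = dlt j k := by
  have h := classInner_ind B hF j k
  rw [Char.classInner_eq_sum (isCharacter_ind B hF j).isClassFunction] at h
  simp only [mult_spec, Complex.conj_natCast] at h
  exact_mod_cast h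

theorem charDegree_eq (χ : IrrCharacter (Cfsg.SU 3 F 3)) :
    (χ : Cfsg.SU 3 F 3 → ℂ) 1 = (charDegree (χ : Cfsg.SU 3 F 3 → ℂ) : ℂ) := χ.2.apply_one_eq_charDegree

theorem sum_mult_degree (k : ℕ) : ∑ χ, mult B hF k χ * charDegree (χ : Cfsg.SU 3 F 3 → ℂ) = 28 := by
  have h := congrFun (Char.eq_sum_classInner (isCharacter_ind B hF k).isClassFunction) 1
  rw [ind_apply_one] at h
  simp only [Finset.sum_apply, Pi.smul_apply, smul_eq_mul, mult_spec, charDegree_eq] at h
  exact_mod_cast h.symm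

/-- The multiplicity of the trivial character on `U`. -/
noncomputable def aval (χ : IrrCharacter (Cfsg.SU 3 F 3)) : ℕ := ∑ k ∈ Finset.range 8, mult B hF k χ

theorem sum_uSub_eq (χ : IrrCharacter (Cfsg.SU 3 F 3)) :
    ∑ u : uSub B hF, (χ : Cfsg.SU 3 F 3 → ℂ) u = 27 * (aval B hF χ : ℂ) := by
  classical
  have hk : ∀ k, (mult B hF k χ : ℂ) =
      (216 : ℂ)⁻¹ * ∑ p : bSub B hF, ((lam B hF k p : ℂˣ) : ℂ) * conj ((χ : Cfsg.SU 3 F 3 → ℂ) p) := by
    intro k
    rw [← mult_spec, ind, Char.classInner_indFun _ _ χ.2.isClassFunction, classInner, card_bSub]; norm_num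
  have hgeo : ∀ p : bSub B hF, ∑ k ∈ Finset.range 8, ((lam B hF k p : ℂˣ) : ℂ) =
      if (p : Cfsg.SU 3 F 3) ∈ uSub B hF then 8 else 0 := by
    intro p
    simp only [lam_apply]
    split_ifs with h
    · rw [(diagHom_eq_one_iff B hF p).2 h]; simp
    · have hne : ((chi0 hF (diagHom B hF p) : ℂˣ) : ℂ) ≠ 1 := by
        intro e
        apply h
        rw [← diagHom_eq_one_iff]
        obtain ⟨i, hi⟩ := mem_powers_iff_mem_zpowers.2 (mem_zpowers_gen (diagHom B hF p))
        rw [← hi] at e ⊢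
        simp only [map_pow, chi0_gen, Units.val_pow_eq_pow_val] at e
        exact orderOf_dvd_iff_pow_eq_one.1 ((orderOf_gen hF).symm ▸ (zeta8_prim.pow_eq_one_iff_dvd i).1 e)
      rw [geom_sum_eq hne, chi0_pow_eight, sub_self, zero_div]
  have h : (aval B hF χ : ℂ) = (216 : ℂ)⁻¹ * (8 * conj (∑ u : uSub B hF, (χ : Cfsg.SU 3 F 3 → ℂ) u)) := by
    rw [aval, Nat.cast_sum, Finset.sum_congr rfl fun k _ => hk k, ← Finset.mul_sum, Finset.sum_comm, map_sum]
    congr 1
    simp only [← Finset.sum_mul, hgeo]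
    rw [Finset.mul_sum]
    symm
    refine Fintype.sum_of_injective (fun u : uSub B hF => (⟨u, uSub_le_bSub B hF u.2⟩ : bSub B hF)) (fun u v e => ?_) _ _
      (fun p hp => ?_) fun u => ?_
    · exact Subtype.ext (congrArg (fun x : bSub B hF => (x : Cfsg.SU 3 F 3)) e)
    · rw [if_neg (fun hm => hp ⟨⟨p, hm⟩, Subtype.ext rfl⟩), zero_mul]
    · rw [if_pos u.2]
  have h' := congrArg conj h
  simp only [map_natCast, map_mul, map_inv₀, map_ofNat, Complex.conj_conj] at h'
  linear_combination -27 * h'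

variable (χ : IrrCharacter (Cfsg.SU 3 F 3))

theorem eq_trivial (h : ∀ g, (χ : Cfsg.SU 3 F 3 → ℂ) g = (χ : Cfsg.SU 3 F 3 → ℂ) 1) :
    (χ : Cfsg.SU 3 F 3 → ℂ) = fun _ => 1 := by
  by_contra hne
  have h0 := Char.classInner_irr_ne χ.2 (Char.isIrrCharacter_one (G := Cfsg.SU 3 F 3)) hne
  simp only [classInner, map_one, mul_one, h, Finset.sum_const, Finset.card_univ, nsmul_eq_mul,
    ← Nat.card_eq_fintype_card] at h0
  rw [inv_mul_cancel_left₀ (by exact_mod_cast Nat.card_pos.ne')] at h0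
  exact χ.2.apply_one_ne_zero h0

/-- The degree in terms of three multiplicities. -/
theorem degree_eq (hne : (χ : Cfsg.SU 3 F 3 → ℂ) ≠ fun _ => 1) :
    ∃ b c : ℕ, c ≠ 0 ∧ charDegree (χ : Cfsg.SU 3 F 3 → ℂ) = aval B hF χ + 8 * b + 6 * c := by
  classical
  set f := (χ : Cfsg.SU 3 F 3 → ℂ) with hf
  have h3 := hF.three
  have hcf : ∀ g h : Cfsg.SU 3 F 3, IsConj g h → f g = f h := by
    intro g h hc
    obtain ⟨c, rfl⟩ := isConj_iff.1 hc
    exact (χ.2.isClassFunction g c).symm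
  obtain ⟨k, hk0, hk⟩ := exists_generator hF
  obtain ⟨z, hz⟩ := exists_umat B hF (show Cond (0 : F) k by unfold Cond; linear_combination hk)
  obtain ⟨u, hu⟩ := exists_umat B hF (show Cond (1 : F) 1 by unfold Cond; linear_combination hF.three)
  have hval : ∀ (g : Cfsg.SU 3 F 3) (a b : F), mat B g = umat a b → a ≠ 0 → f g = f u := fun g a b hg ha =>
    (hcf u g (isConj_of_uSub B hF hg ha hu)).symm
  have hz2 : mat B (z ^ 2) = umat 0 (-k) := by
    rw [pow_two, mat_mul, hz, umat_mul hF, add_zero]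
    congr 1; linear_combination k * h3
  have hu2 : mat B (u ^ 2) = umat (1 + 1) (1 - 1 * 1 ^ 3 + 1) := by rw [pow_two, mat_mul, hu, umat_mul hF]
  have h11 : (1 + 1 : F) ≠ 0 := by rw [one_add_one_eq_two]; exact hF.two_ne
  have hz3 : z ^ 3 = 1 := mat_inj B (by
    rw [pow_succ, mat_mul, hz2, hz, umat_mul hF, mat_one, add_zero, ← umat_zero]
    congr 1; ring)
  have hu3 : u ^ 3 = 1 := mat_inj B (by
    rw [pow_succ, mat_mul, hu2, hu, umat_mul hF, mat_one, ← umat_zero]
    congr 1 <;> grind)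
  have hcomm : Commute z u := mat_inj B (by
    rw [mat_mul, mat_mul, hz, hu, umat_mul hF, umat_mul hF, add_zero, zero_add]
    congr 1; ring)
  have hx4 : (gen (F := F) : F) ^ 4 = -1 := by
    have h8 := hF.pow_eight (gen (F := F)).ne_zero
    have h4 : (gen (F := F) : F) ^ 4 ≠ 1 := by
      intro e
      have h4' : gen (F := F) ^ 4 = 1 := Units.ext (by simpa using e)
      have := orderOf_dvd_of_pow_eq_one h4'
      rw [orderOf_gen hF] at this; omega
    have : ((gen (F := F) : F) ^ 4 - 1) * ((gen (F := F) : F) ^ 4 + 1) = 0 := by linear_combination h8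
    rcases mul_eq_zero.1 this with e | e
    · exact absurd (sub_eq_zero.1 e) h4
    · exact eq_neg_of_add_eq_zero_left e
  have hzz : f (z ^ 2) = f z := by
    refine (hcf z (z ^ 2) (isConj_iff.2 ⟨(torEl B hF (gen (F := F)) : Cfsg.SU 3 F 3), ?_⟩)).symm
    rw [show (torEl B hF (gen (F := F)) : Cfsg.SU 3 F 3) * z = z ^ 2 * (torEl B hF (gen (F := F)) : Cfsg.SU 3 F 3) from
      mat_inj B (by rw [mat_mul, mat_mul, hz2, hz, mat_torEl, tmat_umat hF (gen (F := F)).ne_zero, hx4, mul_zero, neg_one_mul]),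
      mul_inv_cancel_right]
  obtain ⟨c, hc⟩ := exists_nine χ.2.isCharacter hz3 hu3 hcomm hzz
    (hval _ (0 + 1) _ (by rw [mat_mul, hz, hu, umat_mul hF]) (by simp))
    (hval _ (0 + 1) _ (by rw [mat_mul, hz2, hu, umat_mul hF]) (by simp))
    ((hval (z * u ^ 2) (0 + (1 + 1)) _ (by rw [mat_mul, hz, hu2, umat_mul hF]) (by simpa using h11)).trans
      (hval (u ^ 2) _ _ hu2 h11).symm)
    ((hval (z ^ 2 * u ^ 2) (0 + (1 + 1)) _ (by rw [mat_mul, hz2, hu2, umat_mul hF]) (by simpa using h11)).trans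
      (hval (u ^ 2) _ _ hu2 h11).symm)
  let z' : uSub B hF := ⟨z, 0, k, hz⟩
  have hzne : z ≠ 1 := fun e => hk0 (by
    have h := hz; rw [e, mat_one] at h
    simpa [umat] using (congrFun (congrFun h 0) 2).symm)
  have hne1 : (1 : uSub B hF) ∉ ({z', z' ^ 2} : Finset (uSub B hF)) := by
    simp only [Finset.mem_insert, Finset.mem_singleton, not_or]
    exact ⟨fun e => hzne (congrArg Subtype.val e).symm, fun e => hzne (by
      show z = 1
      have e' : z ^ 2 = 1 := (congrArg Subtype.val e).symm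
      rw [← hz3, pow_succ, e', one_mul])⟩
  have hne2 : z' ∉ ({z' ^ 2} : Finset (uSub B hF)) := by
    simp only [Finset.mem_singleton]
    intro e
    have e' : z = z ^ 2 := congrArg Subtype.val e
    rw [pow_two] at e'
    exact hzne (mul_eq_left.1 e'.symm)
  have hsum : ∀ l : uSub B hF →* ℂˣ, l z' = 1 → ∑ g : uSub B hF, f g * ((l g : ℂˣ) : ℂ) =
      f u * ∑ g : uSub B hF, ((l g : ℂˣ) : ℂ) + (f 1 + 2 * f z - 3 * f u) := by
    intro l hl
    rw [Finset.mul_sum, ← sub_eq_iff_eq_add', ← Finset.sum_sub_distrib]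
    rw [← Finset.sum_subset (Finset.subset_univ ({1, z', z' ^ 2} : Finset (uSub B hF))) (fun g _ hg => ?_),
      Finset.sum_insert hne1, Finset.sum_insert hne2, Finset.sum_singleton, map_one, map_pow, hl, one_pow,
      Units.val_one, Subgroup.coe_one, SubgroupClass.coe_pow, show (z' : Cfsg.SU 3 F 3) = z from rfl, hzz]
    · ring
    · obtain ⟨a, b, hab⟩ := g.2
      by_cases ha : a = 0
      · exfalso
        subst ha
        have hb : b + b ^ 3 + (0 : F) ^ 4 = 0 := cond_of_umat B hF hab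
        have hb' : b * (b - k) * (b + k) = 0 := by
          have hk2 : k ^ 2 = -1 := by
            apply mul_left_cancel₀ hk0; linear_combination hk
          linear_combination hb - b * hk2
        apply hg
        simp only [Finset.mem_insert, Finset.mem_singleton]
        rcases mul_eq_zero.1 hb' with e | e
        · rcases mul_eq_zero.1 e with e | e
          · exact Or.inl (Subtype.ext (mat_inj B (by rw [hab, e, Subgroup.coe_one, mat_one, umat_zero])))
          · exact Or.inr (Or.inl (Subtype.ext (mat_inj B (by rw [hab, sub_eq_zero.1 e]; exact hz.symm))))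
        · exact Or.inr (Or.inr (Subtype.ext (mat_inj B (by rw [hab, eq_neg_of_add_eq_zero_left e]; exact hz2.symm))))
      · rw [hval _ a b hab ha, sub_self]
  have hU := sum_uSub_eq B hF χ
  have h1 := hsum 1 rfl
  simp only [MonoidHom.one_apply, Units.val_one, mul_one, Finset.sum_const, Finset.card_univ, nsmul_eq_mul,
    ← Nat.card_eq_fintype_card, card_uSub] at h1
  rw [hU] at h1
  let φ : uSub B hF →* Multiplicative F :=
    { toFun := fun g => Multiplicative.ofAdd (mat B (g : Cfsg.SU 3 F 3) 0 1)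
      map_one' := by simp [mat_one]
      map_mul' := fun g g' => by
        obtain ⟨a, b, e⟩ := g.2
        obtain ⟨a', b', e'⟩ := g'.2
        rw [← ofAdd_add, Subgroup.coe_mul, mat_mul, e, e', umat_mul hF]
        simp [umat] }
  obtain ⟨ν, hν⟩ := CommGroup.exists_apply_ne_one_of_hasEnoughRootsOfUnity (Multiplicative F) ℂ
    (a := Multiplicative.ofAdd (1 : F)) (fun e => one_ne_zero (congrArg Multiplicative.toAdd e))
  let l : uSub B hF →* ℂˣ := ν.comp φ
  have hlz : l z' = 1 := by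
    have : φ z' = 1 := by
      change Multiplicative.ofAdd (mat B z 0 1) = 1
      rw [hz]; simp [umat]
    simp [l, this]
  have hl0 : ∑ g : uSub B hF, ((l g : ℂˣ) : ℂ) = 0 := by
    have h := sum_hom_units ((Units.coeHom ℂ).comp l)
    rw [if_neg (fun e => hν (Units.ext ?_)), Nat.cast_zero] at h
    · exact h
    · have hu' := DFunLike.congr_fun e (⟨u, 1, 1, hu⟩ : uSub B hF)
      change ((ν (Multiplicative.ofAdd (mat B u 0 1)) : ℂˣ) : ℂ) = 1 at hu'
      rw [hu] at hu'
      simpa [umat] using hu'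
  obtain ⟨b, hb⟩ := exists_nat_sum_hom χ.2.isCharacter (uSub B hF).subtype l
  have h2 := hsum l hlz
  rw [hl0, mul_zero, zero_add] at h2
  change ∑ g : uSub B hF, f g * ((l g : ℂˣ) : ℂ) = _ at hb
  rw [h2, card_uSub] at hb
  push_cast at hb h1
  refine ⟨b, c, fun h0 => ?_, ?_⟩
  · rw [h0, Nat.cast_zero, mul_zero, sub_eq_zero] at hc
    haveI := isSimple_su hF
    rcases (Char.charKer_normal χ.2.isCharacter).eq_bot_or_eq_top with hbot | htop
    · have hm : z ∈ Char.charKer χ.2.isCharacter := (Char.mem_charKer χ.2.isCharacter).2 hc.symm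
      rw [hbot, Subgroup.mem_bot] at hm
      exact hzne hm
    · exact hne (eq_trivial χ fun g => (Char.mem_charKer χ.2.isCharacter).1 (htop ▸ Subgroup.mem_top g))
  · have : (charDegree f : ℂ) = (aval B hF χ : ℂ) + 8 * b + 6 * c := by
      rw [← charDegree_eq]
      linear_combination (1 / 27 : ℂ) * (8 * hb) - (1 / 27 : ℂ) * h1 + (2 / 3 : ℂ) * hc
    exact_mod_cast this

theorem mult_trivial {k : ℕ} (hk : ¬ 8 ∣ k) (h1 : (χ : Cfsg.SU 3 F 3 → ℂ) = fun _ => 1) : mult B hF k χ = 0 := by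
  have h := mult_spec B hF k χ
  rw [ind, Char.classInner_indFun _ _ χ.2.isClassFunction, h1] at h
  simp only [classInner, map_one, mul_one, sum_lam, if_neg hk, mul_zero] at h
  exact_mod_cast h.symm

theorem degree_dvd (hF : NineField F) : charDegree (χ : Cfsg.SU 3 F 3 → ℂ) ∣ 6048 := card_su hF ▸ Char.charDegree_dvd_card χ.2

include B hF in
theorem main : (∃ χ : IrrCharacter (Cfsg.SU 3 F 3), 6 ∣ charDegree (χ : Cfsg.SU 3 F 3 → ℂ)) ∧
    (∃ χ : IrrCharacter (Cfsg.SU 3 F 3), 14 ∣ charDegree (χ : Cfsg.SU 3 F 3 → ℂ)) ∧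
    (∃ χ : IrrCharacter (Cfsg.SU 3 F 3), 21 ∣ charDegree (χ : Cfsg.SU 3 F 3 → ℂ)) := by
  classical
  let n := mult B hF
  let d := fun χ : IrrCharacter (Cfsg.SU 3 F 3) => charDegree (χ : Cfsg.SU 3 F 3 → ℂ)
  have hle : ∀ k χ, k < 8 → n k χ ≤ 1 := by
    intro k χ hk
    have h1 : n k χ * n k χ ≤ dlt k k := sum_mult_mul B hF k k ▸
      Finset.single_le_sum (f := fun y => n k y * n k y) (fun _ _ => Nat.zero_le _) (Finset.mem_univ χ)
    have h2 : dlt k k ≤ 2 := by unfold dlt; split_ifs <;> norm_num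
    nlinarith
  let S := fun k => Finset.univ.filter fun χ => n k χ = 1
  have hcard : ∀ k < 8, (S k).card = dlt k k := by
    intro k hk
    rw [← sum_mult_mul B hF k k, Finset.card_filter]
    refine Finset.sum_congr rfl fun χ _ => ?_
    change (if n k χ = 1 then 1 else 0) = n k χ * n k χ
    have := hle k χ hk
    rcases Nat.le_one_iff_eq_zero_or_eq_one.1 this with h | h <;> simp [h]
  have hsumS : ∀ k < 8, ∀ g : IrrCharacter (Cfsg.SU 3 F 3) → ℕ, ∑ χ, n k χ * g χ = ∑ χ ∈ S k, g χ := by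
    intro k hk g
    rw [Finset.sum_filter]
    refine Finset.sum_congr rfl fun χ _ => ?_
    rcases Nat.le_one_iff_eq_zero_or_eq_one.1 (hle k χ hk) with h | h <;> simp [h]
  -- the characters of degree 28
  have hodd : ∀ k, k = 1 ∨ k = 3 → ∃ x, S k = {x} ∧ d x = 28 := by
    intro k hk
    have hk8 : k < 8 := by omega
    obtain ⟨x, hx⟩ := Finset.card_eq_one.1 (show (S k).card = 1 by
      rw [hcard k hk8]; rcases hk with rfl | rfl <;> decide)
    refine ⟨x, hx, ?_⟩
    have h := sum_mult_degree B hF k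
    rw [hsumS k hk8, hx, Finset.sum_singleton] at h
    exact h
  -- the pairs 7, 21
  have heven : ∀ k, k = 2 ∨ k = 4 ∨ k = 6 → ∃ x y, x ≠ y ∧ S k = {x, y} ∧ d x = 7 ∧ d y = 21 := by
    intro k hk
    have hk8 : k < 8 := by omega
    obtain ⟨x, y, hxy, hx⟩ := Finset.card_eq_two.1 (show (S k).card = 2 by
      rw [hcard k hk8]; rcases hk with rfl | rfl | rfl <;> decide)
    have hd := sum_mult_degree B hF k
    rw [hsumS k hk8, hx, Finset.sum_pair hxy] at hd
    have ha : ∑ χ, n k χ * aval B hF χ = 2 := by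
      simp only [aval, Finset.mul_sum]
      rw [Finset.sum_comm, Finset.sum_congr rfl fun j _ => sum_mult_mul B hF k j]
      rcases hk with rfl | rfl | rfl <;> decide
    rw [hsumS k hk8, hx, Finset.sum_pair hxy] at ha
    have hmem : ∀ e ∈ S k, 1 ≤ aval B hF e ∧ (e : Cfsg.SU 3 F 3 → ℂ) ≠ fun _ => 1 := by
      intro e he
      have h1 : n k e = 1 := (Finset.mem_filter.1 he).2
      refine ⟨?_, fun h => ?_⟩
      · rw [← h1, aval]
        exact Finset.single_le_sum (f := fun j => mult B hF j e) (fun _ _ => Nat.zero_le _) (Finset.mem_range.2 hk8)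
      · have := mult_trivial B hF e (k := k) (by omega) h
        change n k e = 0 at this
        omega
    obtain ⟨hax, hnx⟩ := hmem x (by rw [hx]; simp)
    obtain ⟨hay, hny⟩ := hmem y (by rw [hx]; simp)
    obtain ⟨bx, cx, hcx, hdx⟩ := degree_eq B hF x hnx
    obtain ⟨by', cy, hcy, hdy⟩ := degree_eq B hF y hny
    change d x = _ at hdx
    change d y = _ at hdy
    change d x + d y = 28 at hd
    have h7 : (d x = 7 ∧ d y = 21) ∨ (d x = 21 ∧ d y = 7) := by
      have h1 : d x ∣ 6048 := degree_dvd x hF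
      have h2 : d y ∣ 6048 := degree_dvd y hF
      have hl : d x ≤ 21 := by omega
      have hy : d y = 28 - d x := by omega
      rw [hy] at h2
      generalize d x = D at *
      interval_cases D <;> omega
    rcases h7 with ⟨h1, h2⟩ | ⟨h1, h2⟩
    · exact ⟨x, y, hxy, hx, h1, h2⟩
    · exact ⟨y, x, hxy.symm, by rw [hx, Finset.pair_comm], h2, h1⟩
  obtain ⟨x1, hx1, hd1⟩ := hodd 1 (Or.inl rfl)
  obtain ⟨x4, y4, -, -, -, hd4⟩ := heven 4 (Or.inr (Or.inl rfl))
  refine ⟨?_, ⟨x1, by show 14 ∣ d x1; rw [hd1]; norm_num⟩, ⟨y4, by show 21 ∣ d y4; rw [hd4]⟩⟩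
  by_contra hno
  push Not at hno
  let R : Finset ℕ := {0, 1, 2, 3, 4, 6}
  let t : IrrCharacter (Cfsg.SU 3 F 3) := ⟨fun _ => 1, Char.isIrrCharacter_one⟩
  have hdt : d t = 1 := by
    show ⌊((1 : ℂ)).re⌋₊ = 1
    simp
  have ht0 : t ∈ S 0 := by
    refine Finset.mem_filter.2 ⟨Finset.mem_univ _, ?_⟩
    have h := mult_spec B hF 0 t
    rw [ind, Char.classInner_indFun _ _ t.2.isClassFunction] at h
    simp only [classInner, t, map_one, mul_one, sum_lam, dvd_zero, if_true, card_bSub] at h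
    have h' : ((n 0 t : ℕ) : ℂ) = ((1 : ℕ) : ℂ) := by rw [Nat.cast_one]; exact h.symm.trans (by norm_num)
    exact_mod_cast h'
  have hzero : ∑ χ, n 0 χ * d χ ^ 2 = 730 := by
    obtain ⟨x, y, hxy, hx⟩ := Finset.card_eq_two.1 (show (S 0).card = 2 by rw [hcard 0 (by norm_num)]; decide)
    have hd := sum_mult_degree B hF 0
    rw [hsumS 0 (by norm_num), hx, Finset.sum_pair hxy] at hd
    change d x + d y = 28 at hd
    rw [hsumS 0 (by norm_num), hx, Finset.sum_pair hxy]
    rw [hx, Finset.mem_insert, Finset.mem_singleton] at ht0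
    rcases ht0 with rfl | rfl
    · rw [hdt] at hd ⊢; rw [show d y = 27 by omega]; norm_num
    · rw [hdt] at hd ⊢; rw [show d x = 27 by omega]; norm_num
  have h28 : ∀ k, k = 1 ∨ k = 3 → ∑ χ, n k χ * d χ ^ 2 = 784 := fun k hk => by
    obtain ⟨x, hx, hd⟩ := hodd k hk
    rw [hsumS k (by omega), hx, Finset.sum_singleton, hd]; norm_num
  have h490 : ∀ k, k = 2 ∨ k = 4 ∨ k = 6 → ∑ χ, n k χ * d χ ^ 2 = 490 := fun k hk => by
    obtain ⟨x, y, hxy, hx, h1, h2⟩ := heven k hk
    rw [hsumS k (by omega), hx, Finset.sum_pair hxy, h1, h2]; norm_num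
  have hR : ∑ k ∈ R, ∑ χ, n k χ * d χ ^ 2 = 3768 := by
    simp only [R]
    rw [Finset.sum_insert (by decide), Finset.sum_insert (by decide), Finset.sum_insert (by decide),
      Finset.sum_insert (by decide), Finset.sum_insert (by decide), Finset.sum_singleton, hzero, h28 1 (by omega),
      h28 3 (by omega), h490 2 (by omega), h490 4 (by omega), h490 6 (by omega)]
    norm_num
  have hone : ∀ χ, aval B hF χ ≠ 0 → ∑ k ∈ R, n k χ = 1 := by
    intro χ ha
    obtain ⟨k, hk, hk0⟩ := Finset.exists_ne_zero_of_sum_ne_zero ha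
    rw [Finset.mem_range] at hk
    have hsame : ∀ i j, i < 8 → j < 8 → dlt i i = 1 → dlt j j = 1 → dlt i j = 1 → n i χ ≠ 0 → n j χ ≠ 0 := by
      intro i j hi hj hii hjj hij hne
      obtain ⟨ψ, -, hψ⟩ := Finset.exists_ne_zero_of_sum_ne_zero (s := Finset.univ)
        (f := fun y => n i y * n j y) (by rw [sum_mult_mul B hF i j, hij]; norm_num)
      obtain ⟨x, hx⟩ := Finset.card_eq_one.1 ((hcard i hi).trans hii)
      have h1 : χ ∈ S i := Finset.mem_filter.2 ⟨Finset.mem_univ _, by have := hle i χ hi; omega⟩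
      have h2 : ψ ∈ S i := Finset.mem_filter.2 ⟨Finset.mem_univ _, by
        have := hle i ψ hi; have := left_ne_zero_of_mul hψ; omega⟩
      rw [hx, Finset.mem_singleton] at h1 h2
      rw [h1, ← h2]
      exact right_ne_zero_of_mul hψ
    obtain ⟨k0, hk0R, hk0n⟩ : ∃ k0 ∈ R, n k0 χ ≠ 0 := by
      interval_cases k
      · exact ⟨0, by decide, hk0⟩
      · exact ⟨1, by decide, hk0⟩
      · exact ⟨2, by decide, hk0⟩
      · exact ⟨3, by decide, hk0⟩
      · exact ⟨4, by decide, hk0⟩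
      · exact ⟨1, by decide, hsame 5 1 (by norm_num) (by norm_num) (by decide) (by decide) (by decide) hk0⟩
      · exact ⟨6, by decide, hk0⟩
      · exact ⟨3, by decide, hsame 7 3 (by norm_num) (by norm_num) (by decide) (by decide) (by decide) hk0⟩
    have hk08 : k0 < 8 := by simp [R] at hk0R; omega
    rw [Finset.sum_eq_single_of_mem k0 hk0R (fun j hj hne => ?_)]
    · have := hle k0 χ hk08; omega
    · have hd0 : dlt j k0 = 0 := by
        simp [R] at hj hk0R
        rcases hj with rfl | rfl | rfl | rfl | rfl | rfl <;> rcases hk0R with rfl | rfl | rfl | rfl | rfl | rfl <;>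
          first | exact absurd rfl hne | decide
      have h := sum_mult_mul B hF j k0
      rw [hd0, Finset.sum_eq_zero_iff] at h
      exact (mul_eq_zero.1 (h χ (Finset.mem_univ _))).resolve_right hk0n
  let Z := Finset.univ.filter fun χ => aval B hF χ = 0
  have hall : ∑ χ, d χ ^ 2 = 6048 := by
    have h := Char.sum_sq_degree (G := Cfsg.SU 3 F 3)
    simp only [charDegree_eq, card_su hF] at h
    exact_mod_cast h
  have hZ : ∑ χ ∈ Z, d χ ^ 2 = 2280 := by
    rw [Finset.sum_comm] at hR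
    simp only [← Finset.sum_mul] at hR
    have hsplit := Finset.sum_filter_add_sum_filter_not Finset.univ (fun χ => aval B hF χ = 0) (fun χ => d χ ^ 2)
    rw [hall] at hsplit
    have hpos : ∑ χ ∈ Finset.univ.filter (fun χ => ¬ aval B hF χ = 0), d χ ^ 2 = 3768 := by
      rw [← hR, Finset.sum_filter]
      refine Finset.sum_congr rfl fun χ _ => ?_
      by_cases ha : aval B hF χ = 0
      · have : ∑ k ∈ R, n k χ = 0 := Finset.sum_eq_zero fun k hk => by
          refine (Finset.sum_eq_zero_iff.1 ha) k (Finset.mem_range.2 ?_)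
          simp [R] at hk; omega
        rw [if_neg (not_not.2 ha), this, zero_mul]
      · rw [if_pos ha, hone χ ha, one_mul]
    change ∑ χ ∈ Z, d χ ^ 2 + _ = _ at hsplit
    omega
  obtain ⟨p, q, r, hpqr⟩ : ∃ p q r : ℕ, ∑ χ ∈ Z, d χ ^ 2 = 196 * p + 784 * q + 1024 * r := by
    refine Finset.sum_induction _ (fun m => ∃ p q r : ℕ, m = 196 * p + 784 * q + 1024 * r) ?_ ⟨0, 0, 0, rfl⟩ ?_
    · rintro _ _ ⟨p, q, r, rfl⟩ ⟨p', q', r', rfl⟩
      exact ⟨p + p', q + q', r + r', by ring⟩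
    · intro χ hχ
      have ha : aval B hF χ = 0 := (Finset.mem_filter.1 hχ).2
      have hnt : (χ : Cfsg.SU 3 F 3 → ℂ) ≠ fun _ => 1 := by
        intro h
        have h0 : χ = t := Subtype.ext h
        subst h0
        have h1 : n 0 t = 1 := (Finset.mem_filter.1 ht0).2
        have := (Finset.sum_eq_zero_iff.1 ha) 0 (by simp)
        change n 0 t = 0 at this
        omega
      obtain ⟨b, c, hc, hd⟩ := degree_eq B hF χ hnt
      change d χ = _ at hd
      rw [ha] at hd
      have h6 : ¬ 6 ∣ d χ := hno χ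
      have hdvd : d χ ∣ 6048 := degree_dvd χ hF
      have hsmall : d χ ^ 2 ≤ 2280 := hZ ▸ Finset.single_le_sum (f := fun y => d y ^ 2) (fun _ _ => Nat.zero_le _) hχ
      have hle47 : d χ ≤ 47 := by
        by_contra hgt
        push Not at hgt
        have h48 : 48 ≤ d χ := hgt
        have := Nat.pow_le_pow_left h48 2
        omega
      have : d χ = 14 ∨ d χ = 28 ∨ d χ = 32 := by
        generalize d χ = D at *
        interval_cases D <;> omega
      rcases this with h | h | h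
      · exact ⟨1, 0, 0, by rw [h]; norm_num⟩
      · exact ⟨0, 1, 0, by rw [h]; norm_num⟩
      · exact ⟨0, 0, 1, by rw [h]; norm_num⟩
  omega

end Main

/-- `SU(3, 3)` has characters of degrees divisible by 6, 14 and 21. -/
theorem exists_degrees {F : Type u} [Field F] [Fintype F] (hF : NineField F) :
    (∃ d ∈ charDegrees (Cfsg.SU 3 F 3), 6 ∣ d) ∧ (∃ d ∈ charDegrees (Cfsg.SU 3 F 3), 14 ∣ d) ∧
      (∃ d ∈ charDegrees (Cfsg.SU 3 F 3), 21 ∣ d) := by
  obtain ⟨B⟩ := hF.nonempty_frame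
  letI := Fintype.ofFinite (Cfsg.SU 3 F 3)
  letI := Fintype.ofFinite (bSub B hF)
  letI := Fintype.ofFinite (uSub B hF)
  obtain ⟨⟨x, hx⟩, ⟨y, hy⟩, ⟨z, hz⟩⟩ := main B hF
  exact ⟨⟨_, ⟨x, rfl⟩, hx⟩, ⟨_, ⟨y, rfl⟩, hy⟩, ⟨_, ⟨z, rfl⟩, hz⟩⟩

end Cfsg.Lib.U33
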