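import Mathlib
import Cfsg.Agent.Lib.U33.CharLemmas
import Cfsg.Agent.Lib.Char.Ito
import Cfsg.Agent.Lib.Char.Linear
import Cfsg.Agent.Lib.Char.Formulas
import Cfsg.Agent.S0144
import Cfsg.Prelude.Def_DegreeGraph

/-!
# A solvable group of order 6048 with a character degree divisible by 42
-/

set_option autoImplicit false
set_option linter.unusedSectionVars false

open scoped ComplexConjugate
open Cfsg

namespace Cfsg.Lib.U33

universe u v

/-- Three degrees determine the primes and the graph at order 6048. -/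
theorem graph_of_degrees {X : Type u} [Group X] [Finite X] (hX : Nat.card X = 6048)
    (h6 : ∃ d ∈ charDegrees X, 6 ∣ d) (h14 : ∃ d ∈ charDegrees X, 14 ∣ d) (h21 : ∃ d ∈ charDegrees X, 21 ∣ d) :
    degreePrimes X = ({2, 3, 7} : Set ℕ) ∧
      ∀ p q, (degreeGraph X).Adj p q ↔ (p ≠ q ∧ p ∈ ({2, 3, 7} : Set ℕ) ∧ q ∈ ({2, 3, 7} : Set ℕ)) := by
  obtain ⟨a, ha, ha6⟩ := h6
  obtain ⟨b, hb, hb14⟩ := h14
  obtain ⟨c, hc, hc21⟩ := h21
  have hsub : ∀ p, p.Prime → ∀ d ∈ charDegrees X, p ∣ d → p ∈ ({2, 3, 7} : Set ℕ) := by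
    rintro p hp _ ⟨χ, rfl⟩ hpd
    have h : p ∣ 2 ^ 5 * 3 ^ 3 * 7 := by
      rw [show 2 ^ 5 * 3 ^ 3 * 7 = 6048 by norm_num, ← hX]
      exact hpd.trans (Cfsg.Lib.Char.charDegree_dvd_card χ.2)
    simp only [Set.mem_insert_iff, Set.mem_singleton_iff]
    rcases hp.dvd_mul.1 h with h | h
    · rcases hp.dvd_mul.1 h with h | h
      · exact Or.inl ((Nat.prime_dvd_prime_iff_eq hp Nat.prime_two).1 (hp.dvd_of_dvd_pow h))
      · exact Or.inr (Or.inl ((Nat.prime_dvd_prime_iff_eq hp Nat.prime_three).1 (hp.dvd_of_dvd_pow h)))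
    · exact Or.inr (Or.inr ((Nat.prime_dvd_prime_iff_eq hp (by norm_num)).1 h))
  refine ⟨Set.Subset.antisymm (fun p ⟨hp, d, hd, hpd⟩ => hsub p hp d hd hpd) ?_, fun p q => ⟨?_, ?_⟩⟩
  · intro p hp
    simp only [Set.mem_insert_iff, Set.mem_singleton_iff] at hp
    rcases hp with rfl | rfl | rfl
    · exact ⟨by norm_num, a, ha, dvd_trans (by norm_num) ha6⟩
    · exact ⟨by norm_num, a, ha, dvd_trans (by norm_num) ha6⟩
    · exact ⟨by norm_num, b, hb, dvd_trans (by norm_num) hb14⟩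
  · rintro ⟨hne, hp, hq, d, hd, hpq⟩
    exact ⟨hne, hsub p hp d hd ((dvd_mul_right p q).trans hpq), hsub q hq d hd ((dvd_mul_left q p).trans hpq)⟩
  · rintro ⟨hne, hp, hq⟩
    simp only [Set.mem_insert_iff, Set.mem_singleton_iff] at hp hq
    rcases hp with rfl | rfl | rfl <;> rcases hq with rfl | rfl | rfl <;> first
      | exact absurd rfl hne
      | exact ⟨by norm_num, by norm_num, by norm_num, a, ha, by simpa using ha6⟩
      | exact ⟨by norm_num, by norm_num, by norm_num, b, hb, by simpa using hb14⟩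
      | exact ⟨by norm_num, by norm_num, by norm_num, c, hc, by simpa using hc21⟩

/-- Multiplication by a unit on the additive group. -/
def affAut (K : Type u) [Field K] : Kˣ →* MulAut (Multiplicative K) where
  toFun a :=
    { toFun := fun x => Multiplicative.ofAdd ((a : K) * x.toAdd)
      invFun := fun x => Multiplicative.ofAdd (((a⁻¹ : Kˣ) : K) * x.toAdd)
      left_inv := fun x => by simp
      right_inv := fun x => by simp
      map_mul' := fun x y => by rw [← ofAdd_add, toAdd_mul, mul_add] }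
  map_one' := MulEquiv.ext fun x => by simp
  map_mul' a b := MulEquiv.ext fun x => by simp [mul_assoc]

/-- The affine group of the line over the field of 8 elements. -/
abbrev AffEight : Type := Multiplicative (GaloisField 2 3) ⋊[affAut (GaloisField 2 3)] (GaloisField 2 3)ˣ

instance affEight_finite : Finite AffEight := Finite.of_equiv _ SemidirectProduct.equivProd.symm

theorem card_affEight : Nat.card AffEight = 56 := by
  rw [SemidirectProduct.card, Nat.card_units,
    show Nat.card (Multiplicative (GaloisField 2 3)) = Nat.card (GaloisField 2 3) from rfl,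
    GaloisField.card 2 3 (by norm_num)]
  norm_num

theorem exists_degree_seven : ∃ χ : IrrCharacter AffEight, (χ : AffEight → ℂ) 1 = 7 := by
  classical
  haveI := Fintype.ofFinite AffEight
  set N : Subgroup AffEight := (SemidirectProduct.inl : Multiplicative (GaloisField 2 3) →* AffEight).range
  haveI : N.Normal := by
    rw [show N = _ from SemidirectProduct.range_inl_eq_ker_rightHom]
    infer_instance
  have hN : N.index = 7 := by
    have h := N.card_mul_index
    rw [card_affEight, ← Nat.card_congr (MonoidHom.ofInjective SemidirectProduct.inl_injective).toEquiv,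
      show Nat.card (Multiplicative (GaloisField 2 3)) = Nat.card (GaloisField 2 3) from rfl,
      GaloisField.card 2 3 (by norm_num)] at h
    omega
  have hc : ∀ a ∈ N, ∀ b ∈ N, a * b = b * a := by
    rintro _ ⟨a, rfl⟩ _ ⟨b, rfl⟩
    rw [← map_mul, ← map_mul, mul_comm]
  obtain ⟨w, hw⟩ : ∃ w : (GaloisField 2 3)ˣ, w ≠ 1 := by
    have h7 : Nat.card (GaloisField 2 3)ˣ = 7 := by
      rw [Nat.card_units, GaloisField.card 2 3 (by norm_num)]; norm_num
    by_contra hcon
    push Not at hcon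
    haveI : Subsingleton (GaloisField 2 3)ˣ := ⟨fun a b => (hcon a).trans (hcon b).symm⟩
    rw [Nat.card_of_subsingleton (1 : (GaloisField 2 3)ˣ)] at h7
    omega
  have hnc : ¬ ∀ a b : AffEight, a * b = b * a := by
    intro h
    have h1 := congrArg SemidirectProduct.left (h (SemidirectProduct.inr w) (SemidirectProduct.inl (Multiplicative.ofAdd 1)))
    have h2 := congrArg Multiplicative.toAdd (show (1 : Multiplicative (GaloisField 2 3)) *
      affAut (GaloisField 2 3) w (Multiplicative.ofAdd 1) =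
        Multiplicative.ofAdd 1 * affAut (GaloisField 2 3) 1 1 from h1)
    simp [affAut] at h2
    exact hw h2
  by_contra hno
  push Not at hno
  refine hnc (Cfsg.Lib.Char.comm_iff_all_linear.2 fun χ => ?_)
  obtain ⟨d, -, hd⟩ := χ.2.exists_degree
  have hdvd := Cfsg.Lib.Char.degree_dvd_index_of_comm N hc χ.2 hd
  rw [hN] at hdvd
  rcases (Nat.dvd_prime (by norm_num)).1 hdvd with rfl | rfl
  · simpa using hd
  · exact absurd (by simpa using hd) (hno χ)

/-- The group of order 108. -/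
def triGroup : Subgroup (Matrix.GeneralLinearGroup (Fin 3) (ZMod 3)) where
  carrier := {g | (g : Matrix (Fin 3) (Fin 3) (ZMod 3)) 1 0 = 0 ∧ (g : Matrix (Fin 3) (Fin 3) (ZMod 3)) 2 0 = 0 ∧
    (g : Matrix (Fin 3) (Fin 3) (ZMod 3)) 2 1 = 0 ∧ (g : Matrix (Fin 3) (Fin 3) (ZMod 3)) 2 2 = 1}
  one_mem' := by simp
  mul_mem' {a b} := by
    rintro ⟨a1, a2, a3, a4⟩ ⟨b1, b2, b3, b4⟩
    simp [Matrix.mul_apply, Fin.sum_univ_three, a1, a2, a3, a4, b1, b2, b3, b4]
  inv_mem' {a} ha := by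
    have hn : ∀ n : ℕ, (((a ^ n : Matrix.GeneralLinearGroup (Fin 3) (ZMod 3))) : Matrix (Fin 3) (Fin 3) (ZMod 3)) 1 0 = 0 ∧
        ((a ^ n : Matrix.GeneralLinearGroup (Fin 3) (ZMod 3)) : Matrix (Fin 3) (Fin 3) (ZMod 3)) 2 0 = 0 ∧
        ((a ^ n : Matrix.GeneralLinearGroup (Fin 3) (ZMod 3)) : Matrix (Fin 3) (Fin 3) (ZMod 3)) 2 1 = 0 ∧
        ((a ^ n : Matrix.GeneralLinearGroup (Fin 3) (ZMod 3)) : Matrix (Fin 3) (Fin 3) (ZMod 3)) 2 2 = 1 := by
      intro n
      obtain ⟨a1, a2, a3, a4⟩ := ha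
      induction n with
      | zero => simp
      | succ n ih =>
        obtain ⟨b1, b2, b3, b4⟩ := ih
        simp only [Units.val_pow_eq_pow_val] at b1 b2 b3 b4
        simp [pow_succ, Matrix.mul_apply, Fin.sum_univ_three, a1, a2, a3, a4, b1, b2, b3, b4]
    obtain ⟨k, hk⟩ := (isOfFinOrder_of_finite a).mem_powers_iff_mem_zpowers.2 (⟨-1, zpow_neg_one a⟩ : a⁻¹ ∈ Subgroup.zpowers a)
    rw [Set.mem_ofPred_eq, ← hk]
    exact hn k

theorem mem_triGroup {g : Matrix.GeneralLinearGroup (Fin 3) (ZMod 3)} : g ∈ triGroup ↔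
    (g : Matrix (Fin 3) (Fin 3) (ZMod 3)) 1 0 = 0 ∧ (g : Matrix (Fin 3) (Fin 3) (ZMod 3)) 2 0 = 0 ∧
    (g : Matrix (Fin 3) (Fin 3) (ZMod 3)) 2 1 = 0 ∧ (g : Matrix (Fin 3) (Fin 3) (ZMod 3)) 2 2 = 1 := Iff.rfl

/-- Parametrisation of the group of order 108. -/
noncomputable def triEquiv : ((ZMod 3)ˣ × (ZMod 3)ˣ) × ZMod 3 × ZMod 3 × ZMod 3 ≃ triGroup :=
  Equiv.ofBijective (fun p => ⟨Matrix.GeneralLinearGroup.mkOfDetNeZero
      !![(p.1.1 : ZMod 3), p.2.1, p.2.2.1; 0, p.1.2, p.2.2.2; 0, 0, 1]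
      (by simp [Matrix.det_fin_three]), by
        rw [mem_triGroup]; simp [Matrix.GeneralLinearGroup.mkOfDetNeZero]⟩) <| by
    refine ⟨?_, ?_⟩
    · rintro ⟨⟨s, t⟩, a, b, c⟩ ⟨⟨s', t'⟩, a', b', c'⟩ h
      have h' : ∀ i j, (!![(s : ZMod 3), a, b; 0, t, c; 0, 0, 1] : Matrix (Fin 3) (Fin 3) (ZMod 3)) i j =
          (!![(s' : ZMod 3), a', b'; 0, t', c'; 0, 0, 1] : Matrix (Fin 3) (Fin 3) (ZMod 3)) i j :=
        fun i j => congrArg (fun g : triGroup => ((g : Matrix.GeneralLinearGroup (Fin 3) (ZMod 3)) :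
          Matrix (Fin 3) (Fin 3) (ZMod 3)) i j) h
      simp only [Prod.mk.injEq, Units.ext_iff]
      exact ⟨⟨by simpa using h' 0 0, by simpa using h' 1 1⟩, by simpa using h' 0 1, by simpa using h' 0 2,
        by simpa using h' 1 2⟩
    · rintro ⟨g, h10, h20, h21, h22⟩
      have hd : (g : Matrix (Fin 3) (Fin 3) (ZMod 3)).det ≠ 0 := (Matrix.isUnits_det_units g).ne_zero
      rw [Matrix.det_fin_three, h10, h20, h21, h22] at hd
      simp at hd
      obtain ⟨h00, h11⟩ := hd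
      refine ⟨⟨⟨Units.mk0 _ h00, Units.mk0 _ h11⟩, (g : Matrix (Fin 3) (Fin 3) (ZMod 3)) 0 1,
        (g : Matrix (Fin 3) (Fin 3) (ZMod 3)) 0 2, (g : Matrix (Fin 3) (Fin 3) (ZMod 3)) 1 2⟩,
        Subtype.ext (Units.ext ?_)⟩
      ext i j
      fin_cases i <;> fin_cases j <;> first
        | rfl
        | simp [Matrix.GeneralLinearGroup.mkOfDetNeZero, h10, h20, h21, h22]

theorem card_triGroup : Nat.card triGroup = 108 := by
  rw [← Nat.card_congr triEquiv, Nat.card_prod, Nat.card_prod, Nat.card_prod, Nat.card_prod, Nat.card_units,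
    Nat.card_zmod]

/-- The element with the given parameters. -/
noncomputable def tel (s t : (ZMod 3)ˣ) (a b c : ZMod 3) : triGroup := triEquiv ((s, t), a, b, c)

theorem tel_mat (s t : (ZMod 3)ˣ) (a b c : ZMod 3) :
    ((tel s t a b c : Matrix.GeneralLinearGroup (Fin 3) (ZMod 3)) : Matrix (Fin 3) (Fin 3) (ZMod 3)) =
      !![(s : ZMod 3), a, b; 0, t, c; 0, 0, 1] := rfl

theorem exists_degree_six : ∃ χ : IrrCharacter triGroup, ∃ c : ℕ, c ≠ 0 ∧ (χ : triGroup → ℂ) 1 = 6 * (c : ℂ) := by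
  classical
  haveI := Fintype.ofFinite triGroup
  set z := tel 1 1 0 1 0
  set u := tel 1 1 1 0 0
  set v := tel 1 1 0 0 1
  set d := tel (-1) 1 0 0 0
  have key : ∀ x y : triGroup, ((x : Matrix.GeneralLinearGroup (Fin 3) (ZMod 3)) : Matrix (Fin 3) (Fin 3) (ZMod 3)) =
      ((y : Matrix.GeneralLinearGroup (Fin 3) (ZMod 3)) : Matrix (Fin 3) (Fin 3) (ZMod 3)) → x = y :=
    fun x y h => Subtype.ext (Units.ext h)
  have e1 : z ^ 3 = 1 := key _ _ (by simp [z, pow_succ, tel_mat, Subgroup.coe_mul] <;> decide)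
  have e2 : u ^ 3 = 1 := key _ _ (by simp [u, pow_succ, tel_mat, Subgroup.coe_mul] <;> decide)
  have e3 : Commute z u := key _ _ (by simp [z, u, tel_mat])
  have e4 : d * z = z ^ 2 * d := key _ _ (by simp [z, d, pow_two, tel_mat]; decide)
  have e5 : v * u = z ^ 2 * u * v := key _ _ (by simp [z, u, v, pow_two, tel_mat]; decide)
  have e6 : v ^ 2 * u = z * u * v ^ 2 := key _ _ (by simp [z, u, v, pow_two, tel_mat]; decide)
  have e7 : v * u ^ 2 = z * u ^ 2 * v := key _ _ (by simp [z, u, v, pow_two, tel_mat]; decide)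
  have e8 : v ^ 2 * u ^ 2 = z ^ 2 * u ^ 2 * v ^ 2 := key _ _ (by simp [z, u, v, pow_two, tel_mat]; decide)
  have hz1 : z ≠ 1 := fun e => by
    have h := congrArg (fun g : triGroup => ((g : Matrix.GeneralLinearGroup (Fin 3) (ZMod 3)) :
      Matrix (Fin 3) (Fin 3) (ZMod 3)) 0 2) e
    simp [z, tel_mat] at h
  obtain ⟨χ, hχ⟩ : ∃ χ : IrrCharacter triGroup, (χ : triGroup → ℂ) z ≠ (χ : triGroup → ℂ) 1 := by
    by_contra hcon
    push Not at hcon
    exact hz1 (isConj_one_left.1 ((Cfsg.Lib.Char.isConj_iff_forall_irr z 1).2 hcon))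
  have hcl : ∀ g x y : triGroup, g * x = y * g → (χ : triGroup → ℂ) y = (χ : triGroup → ℂ) x := fun g x y h => by
    rw [← χ.2.isClassFunction x g, h, mul_inv_cancel_right]
  obtain ⟨c, hc⟩ := exists_nine χ.2.isCharacter e1 e2 e3 (hcl d _ _ e4) (hcl (v ^ 2) _ _ e6) (hcl v _ _ e5)
    (hcl v _ _ e7) (hcl (v ^ 2) _ _ e8)
  haveI hN : (Subgroup.zpowers z).Normal := by
    refine ⟨fun n hn g => ?_⟩
    obtain ⟨k, rfl⟩ := hn
    rw [← conj_zpow]
    suffices h : g * z * g⁻¹ ∈ Subgroup.zpowers z from zpow_mem h k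
    obtain ⟨⟨⟨s, t⟩, a, b, e⟩, rfl⟩ := triEquiv.surjective g
    change tel s t a b e * z * (tel s t a b e)⁻¹ ∈ _
    rcases (show ∀ s : (ZMod 3)ˣ, s = 1 ∨ s = -1 by decide) s with rfl | rfl
    · rw [show tel 1 t a b e * z = z * tel 1 t a b e from key _ _ (by
        simp [z, tel_mat, Matrix.mul_fin_three] <;> ring_nf), mul_inv_cancel_right]
      exact Subgroup.mem_zpowers z
    · rw [show tel (-1) t a b e * z = z ^ 2 * tel (-1) t a b e from key _ _ (by
        simp [z, pow_two, tel_mat, Matrix.mul_fin_three] <;> ring_nf <;> decide +revert), mul_inv_cancel_right]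
      exact pow_mem (Subgroup.mem_zpowers z) 2
  have ho : orderOf z = 3 := orderOf_eq_prime e1 hz1
  have hsum := sum_normal_eq_zero χ.2 (Subgroup.zpowers z) (Subgroup.mem_zpowers z) hχ
  have hmem : ∀ x : triGroup, x ∈ ({1, z, z ^ 2} : Finset triGroup) ↔ x ∈ Subgroup.zpowers z := by
    intro x
    rw [mem_zpowers_iff_mem_range_orderOf, ho, show Finset.range 3 = {0, 1, 2} from by decide]
    simp
  rw [← Finset.sum_subtype _ hmem, Finset.sum_insert, Finset.sum_insert, Finset.sum_singleton] at hsum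
  · rw [show (χ : triGroup → ℂ) (z ^ 2) = (χ : triGroup → ℂ) z from hcl d _ _ e4] at hsum
    refine ⟨χ, c, fun h0 => ?_, ?_⟩
    · rw [h0, Nat.cast_zero, mul_zero, sub_eq_zero] at hc
      exact hχ hc.symm
    · linear_combination (hsum + 2 * hc) / 3
  · simp [pow_two, hz1]
  · simp only [Finset.mem_insert, Finset.mem_singleton, not_or]
    exact ⟨fun h => hz1 h.symm, fun h => (orderOf_eq_iff (by norm_num : 0 < 3)).1 ho |>.2 2 (by norm_num) (by norm_num) h.symm⟩

/-- Products of irreducible characters are irreducible. -/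
theorem isIrr_prod {A : Type u} {B : Type u} [Group A] [Group B] [Finite A] [Finite B] {α : A → ℂ} {β : B → ℂ}
    (hα : IsIrrCharacter A α) (hβ : IsIrrCharacter B β) : IsIrrCharacter (A × B) fun p => α p.1 * β p.2 := by
  haveI := Fintype.ofFinite A
  haveI := Fintype.ofFinite B
  refine Cfsg.Lib.Char.isIrrCharacter_of_norm_one
    ((hα.isCharacter.comp (MonoidHom.fst A B)).mul (hβ.isCharacter.comp (MonoidHom.snd A B))) ?_
  have h1 := Cfsg.Lib.Char.classInner_irr_self hα
  have h2 := Cfsg.Lib.Char.classInner_irr_self hβ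
  simp only [classInner] at h1 h2 ⊢
  rw [Nat.card_prod, Nat.cast_mul, mul_inv]
  rw [Fintype.sum_prod_type]
  have e : ∀ (a : A) (b : B), α a * β b * (conj (α a) * conj (β b)) =
      (α a * conj (α a)) * (β b * conj (β b)) := fun _ _ => by ring
  simp only [map_mul, e, ← Finset.sum_mul_sum]
  rw [mul_mul_mul_comm, h1, h2, one_mul]

/-- The solvable group. -/
theorem exists_solvable_group : ∃ (H : Type) (_ : Group H) (_ : Fintype H), Group.IsSolvable H ∧ Nat.card H = 6048 ∧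
    ∃ d ∈ charDegrees H, 42 ∣ d := by
  classical
  haveI : Group.IsSolvable AffEight := Cfsg.Agent.S0144.result 2 7 3 1 Nat.prime_two (by norm_num) (by rw [card_affEight]; norm_num)
  haveI : Group.IsSolvable triGroup := Cfsg.Agent.S0144.result 2 3 2 3 Nat.prime_two Nat.prime_three (by rw [card_triGroup]; norm_num)
  refine ⟨AffEight × triGroup, inferInstance, Fintype.ofFinite _, inferInstance, ?_, ?_⟩
  · rw [Nat.card_prod, card_affEight, card_triGroup]
  · obtain ⟨α, hα⟩ := exists_degree_seven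
    obtain ⟨β, c, -, hβ⟩ := exists_degree_six
    refine ⟨42 * c, ⟨⟨_, isIrr_prod α.2 β.2⟩, ?_⟩, dvd_mul_right _ _⟩
    show ⌊((α : AffEight → ℂ) 1 * (β : triGroup → ℂ) 1).re⌋₊ = 42 * c
    rw [hα, hβ, show (7 : ℂ) * (6 * (c : ℂ)) = ((42 * c : ℕ) : ℂ) by push_cast; ring, Complex.natCast_re, Nat.floor_natCast]

end Cfsg.Lib.U33
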